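import Groth.Agent.Divis.BlowChart

/-!
Small lemmas on ideal sheaves: support of the ideal sheaf of an ideal, radicals.
-/

set_option autoImplicit false
universe u

open CategoryTheory AlgebraicGeometry Limits BlowUp

namespace K483.Basics

open Groth.Agent.Divis.BlowChart Groth.Agent.Divis.IdealComap

theorem mem_support_idl {A : Type u} [CommRing A] (I : Ideal A) (w : Spec (CommRingCat.of A)) :
    w ∈ (idl I).support ↔ I ≤ w.asIdeal := by
  rw [← SetLike.mem_coe, Scheme.IdealSheafData.coe_support_ofIdealTop, Spec_zeroLocus]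
  change ((Scheme.ΓSpecIso (CommRingCat.of A)).inv.hom ⁻¹'
    (I.map (Scheme.ΓSpecIso (CommRingCat.of A)).inv.hom : Ideal _) ⊆ (w.asIdeal : Set A)) ↔ _
  have h1 : (I.map (Scheme.ΓSpecIso (CommRingCat.of A)).inv.hom).comap
      (Scheme.ΓSpecIso (CommRingCat.of A)).inv.hom = I := by
    exact Ideal.comap_map_of_bijective _
      (ConcreteCategory.bijective_of_isIso (Scheme.ΓSpecIso (CommRingCat.of A)).inv)
  constructor
  · intro h r hr
    exact h (show r ∈ (I.map (Scheme.ΓSpecIso (CommRingCat.of A)).inv.hom).comap
      (Scheme.ΓSpecIso (CommRingCat.of A)).inv.hom by rw [h1]; exact hr)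
  · intro h r hr
    apply h
    rw [← h1]
    exact hr

/-- an ideal sheaf is contained in the radical of every ideal sheaf with smaller support -/
theorem le_radical_of_support_le {X : Scheme.{u}} {I J : X.IdealSheafData} (h : I.support ≤ J.support) :
    J ≤ I.radical := by
  rw [← Scheme.IdealSheafData.vanishingIdeal_support]
  exact Scheme.IdealSheafData.le_support_iff_le_vanishingIdeal.mp h

/-- In a pushout of commutative rings everything satisfying a ring-closed predicate on both
generators is everything. -/
theorem isPushout_induction {R A B P : CommRingCat.{u}} {f : R ⟶ A} {g : R ⟶ B} {i : A ⟶ P}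
    {j : B ⟶ P} (h : IsPushout f g i j) (S : Subring P) (hA : ∀ a, i a ∈ S) (hB : ∀ b, j b ∈ S)
    (z : P) : z ∈ S := by
  let i' : A ⟶ CommRingCat.of S := CommRingCat.ofHom (i.hom.codRestrict S hA)
  let j' : B ⟶ CommRingCat.of S := CommRingCat.ofHom (j.hom.codRestrict S hB)
  let inc : CommRingCat.of S ⟶ P := CommRingCat.ofHom S.subtype
  have hi : i' ≫ inc = i := rfl
  have hj : j' ≫ inc = j := rfl
  have hw : f ≫ i' = g ≫ j' := by
    ext x
    exact congr($(h.w) x)
  have h1 : h.desc i' j' hw ≫ inc = 𝟙 P := by
    apply h.hom_ext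
    · rw [← Category.assoc, h.inl_desc, hi, Category.comp_id]
    · rw [← Category.assoc, h.inr_desc, hj, Category.comp_id]
  have h2 := congr($h1 z)
  have h3 : inc (h.desc i' j' hw z) = z := h2
  rw [← h3]
  exact (h.desc i' j' hw z).2

end K483.Basics
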