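import Groth.Agent.BlowUp.K483.OrdMul
import Groth.Agent.BlowUp.K483.Basics
import Groth.Agent.Ega4dB.BlowUpChart
import Groth.Agent.Divis.ColonIdeal
import Groth.Agent.Divis.BlowAlg2
import Groth.Agent.Flat2C.BlowProper

/-!
The blowing up of the closed point of a regular local ring of dimension two: multiplicity of the pull-back of `V(f)`
along the exceptional divisor.
-/

set_option autoImplicit false
universe u

open CategoryTheory AlgebraicGeometry Limits BlowUp IsLocalRing

namespace K483.RegPoint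

open Groth.Agent.Divis Groth.Agent.Divis.BlowChart Groth.Agent.Divis.IdealComap Groth.Agent.Ega4B.BiratReg
open Groth.Agent.Ega4dB.BlowUpChart

section Idl

variable {B : Type u} [CommRing B]

theorem idl_ideal_top (I : Ideal B) : (idl I).ideal ⟨⊤, isAffineOpen_top _⟩ =
    I.map (Scheme.ΓSpecIso (CommRingCat.of B)).inv.hom := by
  simp

theorem idl_pow (I : Ideal B) (n : ℕ) : (idl I) ^ n = idl (I ^ n) := by
  apply Scheme.IdealSheafData.ext_of_isAffine
  rw [Scheme.IdealSheafData.ideal_pow, Pi.pow_apply, idl_ideal_top, idl_ideal_top, Ideal.map_pow]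

theorem idl_mono {I J : Ideal B} (h : I ≤ J) : idl I ≤ idl J := by
  apply Scheme.IdealSheafData.le_of_isAffine
  rw [idl_ideal_top, idl_ideal_top]
  exact Ideal.map_mono h

theorem mem_of_mem_map {I : Ideal B} {x : B}
    (h : (Scheme.ΓSpecIso (CommRingCat.of B)).inv.hom x ∈ I.map (Scheme.ΓSpecIso (CommRingCat.of B)).inv.hom) :
    x ∈ I := by
  have h1 : (I.map (Scheme.ΓSpecIso (CommRingCat.of B)).inv.hom).comap
      (Scheme.ΓSpecIso (CommRingCat.of B)).inv.hom = I :=
    Ideal.comap_map_of_bijective _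
      (ConcreteCategory.bijective_of_isIso (Scheme.ΓSpecIso (CommRingCat.of B)).inv)
  rw [← h1]
  exact h

theorem le_of_idl_le {I J : Ideal B} (h : idl I ≤ idl J) : I ≤ J := by
  intro x hx
  have h1 := h ⟨⊤, isAffineOpen_top _⟩
  rw [idl_ideal_top, idl_ideal_top] at h1
  exact mem_of_mem_map (h1 (Ideal.mem_map_of_mem _ hx))

end Idl

theorem le_pow {A : Type u} [CommRing A] [IsLocalRing A] {X : Scheme.{u}} (b : X ⟶ Spec (CommRingCat.of A))
    (f : A) (μ : ℕ) (hf : f ∈ maximalIdeal A ^ μ) :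
    (idl (Ideal.span {f})).comap b ≤ ((idl (maximalIdeal A)).comap b) ^ μ := by
  rw [← comap_pow, idl_pow]
  exact Scheme.IdealSheafData.comap_mono b (idl_mono ((Ideal.span_singleton_le_iff_mem _).2 hf))

variable {A : Type u} [CommRing A] [IsRegularLocalRing A] (hA : ringKrullDim A = 2)

include hA

theorem exists_param : ∃ x : A, x ∈ maximalIdeal A ∧ x ∉ maximalIdeal A ^ 2 := by
  obtain ⟨hdom, hufd⟩ := Groth.Agent.S2821.result A
  obtain ⟨x, y, hm, hx0, -, hrel⟩ := exists_params hA
  have hqr : CAlgX.IsQuasiRegular ![x, y] := isQuasiRegular_pair hx0 hrel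
  refine ⟨x, by rw [hm]; exact Ideal.subset_span (by simp), fun h => ?_⟩
  have h1 : MvPolynomial.eval ![x, y] (MvPolynomial.X 0) ∈ Ideal.span (Set.range ![x, y]) ^ (1 + 1) := by
    rw [MvPolynomial.eval_X, span_range_pair, ← hm]
    exact h
  have h2 := hqr 1 (MvPolynomial.X 0) (MvPolynomial.isHomogeneous_X _ _) h1 (Finsupp.single 0 1)
  rw [MvPolynomial.coeff_X, if_pos rfl, span_range_pair, ← hm] at h2
  exact Ideal.IsPrime.one_notMem inferInstance h2

/-- If `f` is divisible by `x ^ (μ + 1)` in the chart `A[𝔪/x]`, then `f` has order at least `μ + 1`. -/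
theorem mem_of_dvd_chart {x : A} (hx : x ∈ maximalIdeal A) (hx' : x ∉ maximalIdeal A ^ 2) {f : A} {μ : ℕ}
    (hf : f ∈ maximalIdeal A ^ μ) (q : affineAlgebra A (maximalIdeal A) x)
    (h : algebraMap A (affineAlgebra A (maximalIdeal A) x) f = algebraMap A _ x ^ (μ + 1) * q) :
    f ∈ maximalIdeal A ^ (μ + 1) := by
  obtain ⟨hdom, hufd⟩ := Groth.Agent.S2821.result A
  by_contra hf'
  obtain ⟨n, c, hc, hq⟩ := BlowAlg2.exists_pow_mul_eq_mem _ _ hx q
  have hx0 : x ≠ 0 := by
    rintro rfl
    exact hx' (Ideal.zero_mem _)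
  have hinj : Function.Injective (algebraMap A (affineAlgebra A (maximalIdeal A) x)) := by
    intro a b hab
    have h1 := congrArg Subtype.val hab
    change algebraMap A (Localization.Away x) a = algebraMap A (Localization.Away x) b at h1
    exact IsLocalization.injective (M := Submonoid.powers x) _
      (by rw [Submonoid.powers_le]; exact mem_nonZeroDivisors_of_ne_zero hx0) h1
  have h1 : x ^ n * f = x ^ (μ + 1) * c := by
    apply hinj
    rw [map_mul, map_mul, map_pow, map_pow, h, ← hq]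
    ring
  have h2 : x ^ n * f ∈ maximalIdeal A ^ (n * 1 + μ + 1) := by
    rw [h1, show n * 1 + μ + 1 = (μ + 1) + n by ring, pow_add]
    exact Ideal.mul_mem_mul (Ideal.pow_mem_pow hx _) hc
  have h3 : x ^ n ∈ maximalIdeal A ^ (n * 1) := by
    rw [mul_one]; exact Ideal.pow_mem_pow hx n
  exact OrdMul.mul_notMem hA h3 (OrdMul.pow_notMem hA (μ := 1) (by simpa using hx) hx' n) hf hf' h2

variable {X : Scheme.{u}} (b : X ⟶ Spec (CommRingCat.of A))
  (hb : BlowUp.IsBlowUp b (idl (maximalIdeal A))) (f : A) (μ : ℕ) (hf : f ∈ maximalIdeal A ^ μ)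
  (hf' : f ∉ maximalIdeal A ^ (μ + 1))

include hb hf hf'

theorem not_le : ¬ (idl (Ideal.span {f})).comap b ≤ ((idl (maximalIdeal A)).comap b) ^ (μ + 1) := by
  obtain ⟨x, hx, hx'⟩ := exists_param hA
  obtain ⟨j, hj, -⟩ := hb.2 _ (chartMap (maximalIdeal A) x) (isEffCartier_chartMap _ _ hx)
  intro h
  have h1 := Scheme.IdealSheafData.comap_mono j h
  simp only at h1
  rw [comap_pow, ← Scheme.IdealSheafData.comap_comp, ← Scheme.IdealSheafData.comap_comp, hj,
    comap_SpecMap, comap_SpecMap, idl_pow, BlowAlg.map_eq_span _ _ hx, Ideal.map_span,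
    Set.image_singleton, Ideal.span_singleton_pow] at h1
  have h2 := le_of_idl_le h1 (Ideal.mem_span_singleton_self _)
  obtain ⟨q, hq⟩ := Ideal.mem_span_singleton.1 h2
  exact hf' (mem_of_dvd_chart hA hx hx' hf q hq)

theorem exists_strict : ∃ I' : X.IdealSheafData, BlowUp.IsEffCartierIdeal I' ∧
    (idl (Ideal.span {f})).comap b = I' * ((idl (maximalIdeal A)).comap b) ^ μ ∧
      ¬ (((idl (maximalIdeal A)).comap b).support : Set X) ⊆ (I'.support : Set X) := by
  obtain ⟨hdom, hufd⟩ := Groth.Agent.S2821.result A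
  have hf0 : f ≠ 0 := by
    rintro rfl
    exact hf' (Ideal.zero_mem _)
  have hp : IsProper b := Groth.Agent.Flat2C.BlowProper.isProper_of_isBlowUp hb (fun U => by
    have : IsLocallyNoetherian (Spec (CommRingCat.of A)) := inferInstance
    have : IsNoetherianRing Γ(Spec (CommRingCat.of A), U.1) := IsLocallyNoetherian.component_noetherian U
    exact IsNoetherian.noetherian _)
  have hN : IsLocallyNoetherian X := LocallyOfFiniteType.isLocallyNoetherian b
  have hJ : BlowUp.IsEffCartierIdeal ((idl (Ideal.span {f})).comap b) := by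
    refine BlowUpFormal.isEff_comap_of_isBlowUp hb fun z => ?_
    refine ⟨⟨⊤, isAffineOpen_top _⟩, trivial, (Scheme.ΓSpecIso (CommRingCat.of A)).inv.hom f, ?_, ?_⟩
    · exact EffCartier.map_mem_nonZeroDivisors_of_flat _ (RingHom.Flat.of_bijective
        (ConcreteCategory.bijective_of_isIso (Scheme.ΓSpecIso (CommRingCat.of A)).inv))
        (mem_nonZeroDivisors_of_ne_zero hf0)
    · rw [idl_ideal_top, Ideal.map_span, Set.image_singleton]
  obtain ⟨I', hI', hmul⟩ := ColonIdeal.exists_mul_eq (EffCartier.isEff_pow hb.1 μ) hJ (le_pow b f μ hf)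
  refine ⟨I', hI', by rw [← hmul, mul_comm], fun hsub => ?_⟩
  obtain ⟨x, hx, hx'⟩ := exists_param hA
  obtain ⟨j, hj, -⟩ := hb.2 _ (chartMap (maximalIdeal A) x) (isEffCartier_chartMap _ _ hx)
  let B := affineAlgebra A (maximalIdeal A) x
  let σ : B →+* Γ(Spec (CommRingCat.of B), ⊤) := (Scheme.ΓSpecIso (CommRingCat.of B)).inv.hom
  have hσ : Function.Bijective σ :=
    ConcreteCategory.bijective_of_isIso (Scheme.ΓSpecIso (CommRingCat.of B)).inv
  have hEj : ((idl (maximalIdeal A)).comap b).comap j = idl (Ideal.span {algebraMap A B x}) := by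
    rw [← Scheme.IdealSheafData.comap_comp, hj, comap_SpecMap, BlowAlg.map_eq_span _ _ hx]
  have hJj : ((idl (Ideal.span {f})).comap b).comap j = idl (Ideal.span {algebraMap A B f}) := by
    rw [← Scheme.IdealSheafData.comap_comp, hj, comap_SpecMap, Ideal.map_span, Set.image_singleton]
  -- the pull-back of the factorisation
  have h1 : idl (Ideal.span {algebraMap A B f}) = idl (Ideal.span {algebraMap A B x}) ^ μ * I'.comap j := by
    rw [← hJj, ← hEj, ← comap_pow, ← comap_mul, hmul]
  have h2 : σ (algebraMap A B f) ∈ Ideal.span {σ (algebraMap A B x) ^ μ} *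
      (I'.comap j).ideal ⟨⊤, isAffineOpen_top _⟩ := by
    have h3 : σ (algebraMap A B f) ∈ (idl (Ideal.span {algebraMap A B f})).ideal ⟨⊤, isAffineOpen_top _⟩ := by
      rw [idl_ideal_top]
      exact Ideal.mem_map_of_mem _ (Ideal.mem_span_singleton_self _)
    rw [h1, Scheme.IdealSheafData.ideal_mul, Pi.mul_apply, Scheme.IdealSheafData.ideal_pow, Pi.pow_apply,
      idl_ideal_top, Ideal.map_span, Set.image_singleton, Ideal.span_singleton_pow] at h3
    exact h3
  rw [Ideal.mem_span_singleton_mul] at h2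
  obtain ⟨g', hg', hfg⟩ := h2
  -- the support condition
  have h3 : (((idl (maximalIdeal A)).comap b).comap j).support ≤ (I'.comap j).support := by
    intro z hz
    rw [Scheme.IdealSheafData.support_comap] at hz ⊢
    exact hsub hz
  have h4 := Basics.le_radical_of_support_le h3 ⟨⊤, isAffineOpen_top _⟩ hg'
  have h5 : g' ∈ (((((idl (maximalIdeal A)).comap b).comap j)).ideal ⟨⊤, isAffineOpen_top _⟩).radical := h4
  rw [hEj, idl_ideal_top, Ideal.map_span, Set.image_singleton] at h5
  obtain ⟨N, hN'⟩ := h5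
  obtain ⟨w', hw'⟩ := Ideal.mem_span_singleton.1 hN'
  obtain ⟨w, rfl⟩ := hσ.2 w'
  have h6 : algebraMap A B (f ^ N) = algebraMap A B x ^ (N * μ + 1) * w := by
    apply hσ.1
    have h7 : g' ^ N = σ (algebraMap A B x) * σ w := hw'
    rw [map_pow, map_pow, ← hfg, mul_pow, h7, map_mul, map_pow, ← pow_mul, mul_comm μ N]
    ring
  refine OrdMul.pow_notMem hA hf hf' N (mem_of_dvd_chart hA hx hx' ?_ w h6)
  rw [mul_comm, pow_mul]
  exact Ideal.pow_mem_pow hf N

end K483.RegPoint
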