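import Groth.Agent.Divis.BlowUpFormal
import Groth.Agent.Flat2C.LocalLift

/-!
Being a blowing up is local on the base.
-/

set_option autoImplicit false
universe u

open CategoryTheory AlgebraicGeometry Limits BlowUp

namespace K483.Local

open Groth.Agent.Divis Groth.Agent.Divis.EffCartier Groth.Agent.Flat2C

variable {X X' : Scheme.{u}} {b : X' ⟶ X} {𝓘 : X.IdealSheafData}

/-- lifts of a morphism landing in `U` -/
theorem existsUnique_lift_of_mem {U : X.Opens} (hU : IsBlowUp (b ∣_ U) (𝓘.comap U.ι)) {Y : Scheme.{u}}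
    (g : Y ⟶ X) (hg : ∀ y : Y, g y ∈ U) (hE : IsEffCartierIdeal (𝓘.comap g)) : ∃! h : Y ⟶ X', h ≫ b = g := by
  have hr : Set.range g ⊆ Set.range U.ι := by
    rintro _ ⟨y, rfl⟩
    rw [Scheme.Opens.range_ι]
    exact hg y
  let g' : Y ⟶ U := IsOpenImmersion.lift U.ι g hr
  have hg' : g' ≫ U.ι = g := IsOpenImmersion.lift_fac _ _ _
  have hE' : IsEffCartierIdeal ((𝓘.comap U.ι).comap g') := by
    rw [← Scheme.IdealSheafData.comap_comp, hg']
    exact hE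
  obtain ⟨k, hk, huniq⟩ := hU.2 Y g' hE'
  refine ⟨k ≫ (b ⁻¹ᵁ U).ι, ?_, fun l hl => ?_⟩
  · change (k ≫ (b ⁻¹ᵁ U).ι) ≫ b = g
    rw [Category.assoc, ← morphismRestrict_ι, reassoc_of% hk, hg']
  · have hl' : l ≫ b = g := hl
    have hrl : Set.range l ⊆ Set.range (b ⁻¹ᵁ U).ι := by
      rintro _ ⟨y, rfl⟩
      rw [Scheme.Opens.range_ι]
      change b (l y) ∈ U
      have : b (l y) = g y := by rw [← hl']; rfl
      rw [this]
      exact hg y
    have h1 : IsOpenImmersion.lift (b ⁻¹ᵁ U).ι l hrl ≫ (b ⁻¹ᵁ U).ι = l := IsOpenImmersion.lift_fac _ _ _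
    rw [← h1]
    congr 1
    apply huniq
    change _ ≫ (b ∣_ U) = g'
    rw [← cancel_mono U.ι, Category.assoc, morphismRestrict_ι, reassoc_of% h1, hl', hg']

/-- Being a blowing up is local on the base. -/
theorem isBlowUp_of_local
    (h : ∀ x : X, ∃ U : X.Opens, x ∈ U ∧ IsBlowUp (b ∣_ U) (𝓘.comap U.ι)) : IsBlowUp b 𝓘 := by
  refine ⟨isEff_of_forall_comap fun x' => ?_, fun Y g hE => LocalLift.existsUnique_lift b g ?_ ?_⟩
  · obtain ⟨U, hxU, hU⟩ := h (b x')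
    refine ⟨_, (b ⁻¹ᵁ U).ι, inferInstance, ?_, ?_⟩
    · rw [Scheme.Opens.range_ι]; exact hxU
    · rw [← Scheme.IdealSheafData.comap_comp, ← morphismRestrict_ι, Scheme.IdealSheafData.comap_comp]
      exact hU.1
  · intro W j _ h₁ h₂ e₁ e₂
    refine Scheme.hom_ext_of_forall _ _ fun w => ?_
    obtain ⟨U, hxU, hU⟩ := h (g (j w))
    refine ⟨(j ≫ g) ⁻¹ᵁ U, hxU, ?_⟩
    have hE' : IsEffCartierIdeal (𝓘.comap (((j ≫ g) ⁻¹ᵁ U).ι ≫ j ≫ g)) := by
      rw [Scheme.IdealSheafData.comap_comp, Scheme.IdealSheafData.comap_comp]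
      exact isEff_comap_flat (isEff_comap_flat hE _) _
    obtain ⟨k, -, hk⟩ := existsUnique_lift_of_mem hU (((j ≫ g) ⁻¹ᵁ U).ι ≫ j ≫ g) (fun y => y.2) hE'
    rw [hk (((j ≫ g) ⁻¹ᵁ U).ι ≫ h₁) (by change (_ ≫ _) ≫ _ = _; rw [Category.assoc, e₁]),
      hk (((j ≫ g) ⁻¹ᵁ U).ι ≫ h₂) (by change (_ ≫ _) ≫ _ = _; rw [Category.assoc, e₂])]
  · intro y
    obtain ⟨U, hxU, hU⟩ := h (g y)
    refine ⟨_, (g ⁻¹ᵁ U).ι, inferInstance, ?_, ?_⟩
    · rw [Scheme.Opens.range_ι]; exact hxU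
    · have hE' : IsEffCartierIdeal (𝓘.comap ((g ⁻¹ᵁ U).ι ≫ g)) := by
        rw [Scheme.IdealSheafData.comap_comp]
        exact isEff_comap_flat hE _
      obtain ⟨k, hk, -⟩ := existsUnique_lift_of_mem hU ((g ⁻¹ᵁ U).ι ≫ g) (fun y => y.2) hE'
      exact ⟨k, hk⟩

end K483.Local
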