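import Groth.Agent.BlowUp.K483.FreeIdeal
import Groth.Agent.BlowUp.K483.Local

/-!
For an affine morphism `f : X ⟶ Y`, being a blowing up can be checked on the rings of sections over affine opens.
-/

set_option autoImplicit false
universe u

open CategoryTheory AlgebraicGeometry Limits BlowUp

namespace K483.AffineBase

open Groth.Agent.Divis Groth.Agent.Divis.BlowChart Groth.Agent.Divis.BlowUpFormal

variable {X Y : Scheme.{u}}

/-- If `Spec Γ(X, f⁻¹U) ⟶ Spec Γ(Y, U)` is a blowing up of `I(U)`, then `f` restricted over `U` is a blowing up. -/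
theorem isBlowUp_morphismRestrict_of_app {f : X ⟶ Y} {I : Y.IdealSheafData} {U : Y.Opens}
    (hU : IsAffineOpen U) (hV : IsAffineOpen (f ⁻¹ᵁ U))
    (h : IsBlowUp (Spec.map (f.app U)) (idl (A := Γ(Y, U)) (I.ideal ⟨U, hU⟩))) :
    IsBlowUp (f ∣_ U) (I.comap U.ι) := by
  have hsq : IsPullback hV.isoSpec.hom (f ∣_ U) (Spec.map (f.app U)) hU.isoSpec.hom := by
    refine IsPullback.of_horiz_isIso ⟨?_⟩
    rw [← cancel_mono hU.isoSpec.inv, Category.assoc, Category.assoc, Iso.hom_inv_id, Category.comp_id,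
      ← cancel_mono U.ι, morphismRestrict_ι, Category.assoc, Category.assoc,
      IsAffineOpen.isoSpec_inv_ι, Scheme.Hom.app_eq_appLE,
      IsAffineOpen.SpecMap_appLE_fromSpec f hU hV, IsAffineOpen.isoSpec_hom_fromSpec_assoc]
  have h1 := isBlowUp_of_isPullback h hsq
  have h2 : I.comap hU.fromSpec = idl (A := Γ(Y, U)) (I.ideal ⟨U, hU⟩) :=
    BlowChart2.comap_fromSpec I ⟨U, hU⟩
  rw [← h2, ← Scheme.IdealSheafData.comap_comp, IsAffineOpen.isoSpec_hom_fromSpec] at h1
  exact h1

/-- Affine-local criterion for a morphism to be a blowing up. -/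
theorem isBlowUp_of_app {f : X ⟶ Y} [IsAffineHom f] {I : Y.IdealSheafData}
    (h : ∀ y : Y, ∃ (U : Y.Opens) (hU : IsAffineOpen U), y ∈ U ∧
      IsBlowUp (Spec.map (f.app U)) (idl (A := Γ(Y, U)) (I.ideal ⟨U, hU⟩))) : IsBlowUp f I :=
  Local.isBlowUp_of_local fun y => by
    obtain ⟨U, hU, hy, hb⟩ := h y
    exact ⟨U, hy, isBlowUp_morphismRestrict_of_app hU (hU.preimage f) hb⟩

end K483.AffineBase
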