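import Groth.Agent.BlowUp.K483.ExcVan
import Groth.Agent.Krr.H470.BlowMain
import Groth.Agent.Krr.H471.ChartUnit
import Groth.Agent.S2260
import Groth.Agent.S2348
import Groth.Agent.S0927
import Groth.Agent.CalgA.RegBasic
import Groth.Agent.Cohder.RDAcyc

/-!
# `O_Y = σ_* O_X` and `R^q σ_* σ^* E = 0` for the blow-up of a regular immersion in a regular scheme
-/

set_option autoImplicit false
universe u
open CategoryTheory CategoryTheory.Limits AlgebraicGeometry

namespace K483.BlowUnit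

open Groth.Agent Groth.Agent.Krr.H455.RelCast Groth.Agent.Krr.H471.ChartVan Groth.Agent.Krr.H446.BlowDesc

theorem app_bijective_of_isIso_unit {V' V : Scheme.{u}} (b : V' ⟶ V)
    (h : IsIso ((Scheme.Modules.pullbackPushforwardAdjunction b).unit.app (Coh.structureModule V))) (W : V.Opens) :
    Function.Bijective (b.app W) := by
  have h1 : IsIso (Fga.UnitRestrict.unitToPush b) := by
    rw [← Fga.UnitRestrict.unit_pullbackUnitHom]
    infer_instance
  have h2 : IsIso ((Fga.UnitRestrict.unitToPush b).app W) := inferInstance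
  exact ConcreteCategory.bijective_of_isIso ((Fga.UnitRestrict.unitToPush b).app W)

/-- The tensor product with a zero module is zero. -/
theorem isZero_tensor {X : Scheme.{u}} (M : X.Modules) {N : X.Modules} (hN : IsZero N) :
    IsZero (CohB1.tensorMod M N) := by
  have h0 : ∀ (U : X.Opens) (n : Γ(N, U)), n = 0 := by
    intro U n
    have h : (𝟙 N) = 0 := hN.eq_of_src _ _
    have h1 := congrArg (fun f : N ⟶ N => f.app U n) h
    simpa using h1
  rw [IsZero.iff_id_eq_zero]
  apply Ega2.Tens.hom_ext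
  intro U m n
  rw [h0 U n, Ega2.Tens.tmul_zero, map_zero, map_zero]

section abstract

variable {C : Type*} [Category C] [Abelian C] {D : Type*} [Category D] [Abelian D]

/-- A morphism of short exact sequences invertible on the first two terms is invertible on the third. -/
theorem isIso_τ₃ {T T' : ShortComplex C} (hT : T.ShortExact) (hT' : T'.ShortExact) (φ : T ⟶ T')
    (h₁ : IsIso φ.τ₁) (h₂ : IsIso φ.τ₂) : IsIso φ.τ₃ := by
  have := hT.epi_g
  have := hT'.epi_g
  have w : T'.f ≫ inv φ.τ₂ ≫ T.g = 0 := by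
    have h : T'.f ≫ inv φ.τ₂ = inv φ.τ₁ ≫ T.f := by
      rw [IsIso.comp_inv_eq, Category.assoc, IsIso.eq_inv_comp, φ.comm₁₂]
    rw [← Category.assoc, h, Category.assoc, T.zero, comp_zero]
  let k : T'.X₃ ⟶ T.X₃ := hT'.gIsCokernel.desc (CokernelCofork.ofπ (inv φ.τ₂ ≫ T.g) w)
  have hk : T'.g ≫ k = inv φ.τ₂ ≫ T.g := hT'.gIsCokernel.fac _ WalkingParallelPair.one
  refine ⟨k, ?_, ?_⟩
  · rw [← cancel_epi T.g, ← Category.assoc, ← φ.comm₂₃, Category.assoc, hk, IsIso.hom_inv_id_assoc,
      Category.comp_id]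
  · rw [← cancel_epi T'.g, ← Category.assoc, hk, Category.assoc, ← φ.comm₂₃, IsIso.inv_hom_id_assoc,
      Category.comp_id]

theorem isIso_map_f (F : C ⥤ D) [F.Additive] [PreservesFiniteLimits F] {T : ShortComplex C} (hT : T.ShortExact)
    (h : IsZero (F.obj T.X₃)) : IsIso (F.map T.f) := by
  have hf := hT.mono_f
  have h1 : Mono (F.map T.f) := inferInstance
  have h3 : (T.map F).Exact := by
    have := (F.preservesFiniteLimits_tfae.out 3 1 :)
    exact ((this.1 inferInstance) T ⟨hT.exact, hf⟩).1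
  have h4 : Epi (T.map F).f := h3.epi_f (h.eq_of_tgt _ _)
  have h5 : Epi (F.map T.f) := h4
  exact isIso_of_mono_of_epi _

end abstract

variable {S Y X : Scheme.{u}} (i : S ⟶ Y) [IsClosedImmersion i] (hreg : Mor2.IsRegularClosedImmersion i) {d : ℕ}
  (hd : 1 ≤ d) (hrk : FlatMod.IsFinLocFreeOfRank d (Omega.conormal i)) (σ : X ⟶ Y)
  (hσ : BlowUp.IsBlowUp σ i.ker)

include hreg hd hrk hσ in
theorem app_bijective_of_isIntegral (V : Y.Opens) [hV : IsIntegral (V : Scheme.{u})] (W : Y.Opens) (hW : W ≤ V) :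
    Function.Bijective (σ.app W) := by
  have hpb : IsPullback (i ∣_ V) (i ⁻¹ᵁ V).ι V.ι i := isPullback_morphismRestrict i V
  have hr := Krr.H501.RegLen.isRegular_and_rank_of_isPullback hpb hreg hrk
  have hker : (i ∣_ V).ker = i.ker.comap V.ι := Sga67.BlowReg.ker_of_isPullback hpb
  have hb : BlowUp.IsBlowUp (σ ∣_ V) (i ∣_ V).ker := by
    rw [hker]
    exact Divis.BlowUpFormal.isBlowUp_morphismRestrict hσ V
  have hne : (i ∣_ V).ker ≠ ⊥ := by
    intro hbot
    obtain ⟨v⟩ : Nonempty (V : Scheme.{u}) := inferInstance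
    obtain ⟨U, hvU, -, n, a, hn, ha, ha0, -⟩ := Krr.H470.BlowMain.exists_adapted (i ∣_ V) hr.1 hd hr.2 v ⊤ trivial
    rw [hbot] at ha
    have h1 : a ⟨0, hn⟩ ∈ Ideal.span (Set.range a) := Ideal.subset_span ⟨_, rfl⟩
    rw [← ha] at h1
    exact ha0 _ (by simpa using h1)
  obtain ⟨hint, -⟩ := S2348.result _ hne (σ ∣_ V) hb
  have h1 := Krr.H470.BlowMain.isIso_unit (i ∣_ V) hr.1 hd hr.2 (σ ∣_ V) hb
  have h2 := app_bijective_of_isIso_unit (σ ∣_ V) h1 (V.ι ⁻¹ᵁ W)
  have h3 : V.ι ''ᵁ V.ι ⁻¹ᵁ W = W := by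
    rw [Scheme.Hom.image_preimage_eq_opensRange_inf, Scheme.Opens.opensRange_ι]
    exact inf_eq_right.2 hW
  have h4 : IsIso ((σ ∣_ V).app (V.ι ⁻¹ᵁ W)) := (ConcreteCategory.isIso_iff_bijective _).2 h2
  rw [morphismRestrict_app] at h4
  have h5 : IsIso (σ.app (V.ι ''ᵁ V.ι ⁻¹ᵁ W)) := by
    have h6 : ∀ {A B : X.Opens} (e : A = B), IsIso (X.presheaf.map (eqToHom e).op) := by
      rintro A _ rfl
      rw [eqToHom_refl, op_id, X.presheaf.map_id]
      infer_instance
    exact @IsIso.of_isIso_comp_right _ _ _ _ _ _ _ (h6 _) h4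
  rw [← h3]
  exact (ConcreteCategory.isIso_iff_bijective _).1 h5

include hreg hd hrk hσ in
/-- `E ≅ σ_* σ^* E` for `E` finite locally free. -/
theorem isIso_unit [IsLocallyNoetherian Y] (hY : ∀ y : Y, IsRegularLocalRing (Y.presheaf.stalk y)) {E : Y.Modules}
    (hE : FlatMod.IsFinLocFree E) : IsIso ((Scheme.Modules.pullbackPushforwardAdjunction σ).unit.app E) := by
  refine Krr.H471.ChartUnit.isIso_unit_of_local σ (fun y => ?_) (VarietyB.TensCoh.HasBases.of_isFinLocFree hE)
  have := hY y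
  have : IsDomain (Y.presheaf.stalk y) := CalgA.RegBasic.isDomain _
  obtain ⟨V, hyV, hV⟩ := S2260.result Y y
  exact ⟨V, hyV, fun W _ hWV => app_bijective_of_isIntegral i hreg hd hrk σ hσ V W hWV⟩

include hreg hrk hσ in
/-- `R^q σ_* (J^n) = 0` for `q ≥ 1`. -/
theorem van_tensorPow [IsNoetherian Y] (hd : 1 ≤ d) (n q : ℕ) (hq : 1 ≤ q) :
    Van σ q (CohB1.tensorPow (ClSub.idealMod (i.ker.comap σ)) n) := by
  obtain ⟨r, rfl⟩ : ∃ r, d = r + 1 := ⟨d - 1, by omega⟩
  have : CompactSpace S := QuasiCompact.compactSpace_of_compactSpace i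
  have : IsProper σ := Flat2C.BlowProper.isProper_of_isBlowUp hσ fun U => by
    have := IsLocallyNoetherian.component_noetherian U
    exact IsNoetherian.noetherian _
  exact blowUp_van_pow i σ hσ (pullback.fst σ i) (pullback.snd σ i) (ExcVan.ker_fst i σ) pullback.condition
    (fun n q hq => ExcVan.van_exc_pow i hreg hrk σ hσ n q hq) n q hq

include hreg hrk hσ in
/-- `R^q σ_* σ^* E = 0` for `q ≥ 1` and `E` finite locally free. -/
theorem van_pullback [IsNoetherian Y] (hd : 1 ≤ d) {E : Y.Modules} (hE : FlatMod.IsFinLocFree E) (q : ℕ)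
    (hq : 1 ≤ q) : Van σ q ((Scheme.Modules.pullback σ).obj E) := by
  have := Krr.H485.LerayCl.hasInjectiveResolutions X
  have h0 : Van σ q (Coh.structureModule X) := van_tensorPow i hreg hrk σ hσ hd 0 q hq
  rw [van_iff_rpush] at h0 ⊢
  obtain ⟨e⟩ := S0927.result σ (Coh.structureModule X) E hE q
  exact IsZero.of_iso (isZero_tensor E h0) ((Coh.Rpush σ q).mapIso (Ega2.Tens.runit _).symm ≪≫ e.symm)

include hreg hrk hσ in
/-- `R^q σ_* σ^* F = 0` for `q ≥ 1` if `F` has a two term resolution by finite locally free modules whose pull-back is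
exact. -/
theorem van_pullback₃ [IsNoetherian Y] (hd : 1 ≤ d) (T : ShortComplex Y.Modules)
    (h₁ : FlatMod.IsFinLocFree T.X₁) (h₀ : FlatMod.IsFinLocFree T.X₂)
    (hpull : (T.map (Scheme.Modules.pullback σ)).ShortExact) (q : ℕ) (hq : 1 ≤ q) :
    Van σ q ((Scheme.Modules.pullback σ).obj T.X₃) :=
  van₃ σ hpull q (van_pullback i hreg hrk σ hσ hd h₀ q hq) (van_pullback i hreg hrk σ hσ hd h₁ (q + 1) (by omega))

include hreg hrk hσ in
theorem isIso_unit₃ [IsNoetherian Y] (hY : ∀ y : Y, IsRegularLocalRing (Y.presheaf.stalk y)) (hd : 1 ≤ d)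
    (T : ShortComplex Y.Modules) (hT : T.ShortExact)
    (h₁ : FlatMod.IsFinLocFree T.X₁) (h₀ : FlatMod.IsFinLocFree T.X₂)
    (hpull : (T.map (Scheme.Modules.pullback σ)).ShortExact) :
    IsIso ((Scheme.Modules.pullbackPushforwardAdjunction σ).unit.app T.X₃) := by
  have := Krr.H485.LerayCl.hasInjectiveResolutions X
  let adj := Scheme.Modules.pullbackPushforwardAdjunction σ
  have hv := van_pullback i hreg hrk σ hσ hd h₁ 1 le_rfl
  rw [van_iff_rpush] at hv
  have : PreservesFiniteLimits (Scheme.Modules.pushforward σ) := by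
    have : PreservesLimitsOfSize.{0, 0} (Scheme.Modules.pushforward σ) := adj.rightAdjoint_preservesLimits
    infer_instance
  have hT' := Cohder.RDAcyc.map_shortExact (Scheme.Modules.pushforward σ) hpull hv
  have e₁ : IsIso (adj.unit.app T.X₁) := isIso_unit i hreg hd hrk σ hσ hY h₁
  have e₂ : IsIso (adj.unit.app T.X₂) := isIso_unit i hreg hd hrk σ hσ hY h₀
  let φ : T ⟶ (T.map (Scheme.Modules.pullback σ)).map (Scheme.Modules.pushforward σ) :=
    { τ₁ := adj.unit.app T.X₁
      τ₂ := adj.unit.app T.X₂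
      τ₃ := adj.unit.app T.X₃
      comm₁₂ := (adj.unit.naturality T.f).symm
      comm₂₃ := (adj.unit.naturality T.g).symm }
  exact isIso_τ₃ hT hT' φ e₁ e₂

include hreg hrk hσ in
/-- `σ_* O_X(D) ≅ O_Y` in codimension at least two. -/
theorem nonempty_push_iso [IsNoetherian Y] (hY : ∀ y : Y, IsRegularLocalRing (Y.presheaf.stalk y)) (hd : 2 ≤ d)
    (L : X.Modules) (hL : ClSub.IsInverseOf L (ClSub.idealMod (i.ker.comap σ))) :
    Nonempty ((Scheme.Modules.pushforward σ).obj L ≅ Coh.structureModule Y) := by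
  have := Krr.H485.LerayCl.hasInjectiveResolutions X
  obtain ⟨r, rfl⟩ : ∃ r, d = r + 1 := ⟨d - 1, by omega⟩
  have hS : CompactSpace S := QuasiCompact.compactSpace_of_compactSpace i
  have hpr : IsProper σ := Flat2C.BlowProper.isProper_of_isBlowUp hσ fun U => by
    have := IsLocallyNoetherian.component_noetherian U
    exact IsNoetherian.noetherian _
  have hv := ExcVan.van_neg i hreg hrk σ hσ (by omega) L hL 0
  rw [van_iff_rpush] at hv
  obtain ⟨ε⟩ := hL
  have hLinv : PicF.IsInvertible L := S2122.result L _ ε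
  let adj := Scheme.Modules.pullbackPushforwardAdjunction σ
  have : PreservesFiniteLimits (Scheme.Modules.pushforward σ) := by
    have : PreservesLimitsOfSize.{0, 0} (Scheme.Modules.pushforward σ) := adj.rightAdjoint_preservesLimits
    infer_instance
  have h1 : IsIso ((Scheme.Modules.pushforward σ).map
      (VarietyB.RestrSeq.restrSeq (hasBases_of_isInvertible hLinv) (i.ker.comap σ)).f) :=
    isIso_map_f (Scheme.Modules.pushforward σ) (VarietyB.RestrSeq.restrSeq_shortExact _ _)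
      (hv.of_iso ((Scheme.Modules.pushforward σ).rightDerivedZeroIsoSelf.symm.app _))
  have h2 : IsIso (adj.unit.app (Coh.structureModule Y)) :=
    isIso_unit i hreg (by omega) hrk σ hσ hY Sga67.TensorOps.isFinLocFree_structureModule
  exact ⟨(asIso ((Scheme.Modules.pushforward σ).map
    (VarietyB.RestrSeq.restrSeq (hasBases_of_isInvertible hLinv) (i.ker.comap σ)).f)).symm ≪≫
    (Scheme.Modules.pushforward σ).mapIso (ε ≪≫ (Krr.H482.PullTens.pullUnitIso σ).symm) ≪≫
    (asIso (adj.unit.app (Coh.structureModule Y))).symm⟩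

end K483.BlowUnit
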