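import Groth.Agent.BlowUp.K483.Basics
import Mathlib.AlgebraicGeometry.Morphisms.Flat
import Mathlib.AlgebraicGeometry.Morphisms.Affine

/-!
Ideals supported on `V(t)` descend along `Y ×_R R' ⟶ Y` when `R / t ^ n ⟶ R' / t ^ n` is surjective for all `n`.
-/

set_option autoImplicit false
universe u

open CategoryTheory AlgebraicGeometry Limits BlowUp

namespace K483.ComplDescent

open Groth.Agent.Divis.BlowChart Groth.Agent.Divis.IdealComap

variable {R R' : Type u} [CommRing R] [CommRing R'] (φ : R →+* R') (t : R)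
  (hφ : ∀ (n : ℕ) (r' : R'), ∃ (r : R) (w : R'), r' = φ r + φ t ^ n * w)
  {Y Y' : Scheme.{u}} {π : Y' ⟶ Y} {q : Y ⟶ Spec (CommRingCat.of R)} {q' : Y' ⟶ Spec (CommRingCat.of R')}
  (H : IsPullback π q' q (Spec.map (CommRingCat.ofHom φ)))

include hφ H

/-- Every function on `π⁻¹W` is congruent to a function on `W` modulo `t ^ n`. -/
theorem exists_eq_add {W : Y.Opens} (hW : IsAffineOpen W) (n : ℕ) (z : Γ(Y', π ⁻¹ᵁ W)) :
    ∃ (b : Γ(Y, W)) (w : Γ(Y', π ⁻¹ᵁ W)), z = (π.app W).hom b +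
      (π.app W).hom (resT Y W (glob q t)) ^ n * w := by
  let p : Spec (CommRingCat.of R') ⟶ Spec (CommRingCat.of R) := Spec.map (CommRingCat.ofHom φ)
  have h1 := isIso_pushoutSection_of_isAffineOpen H (US := ⊤) (UT := ⊤) (UX := W)
    (UY := π ⁻¹ᵁ W) le_top le_top (by simp) (isAffineOpen_top _) (isAffineOpen_top _) hW
  have h2 : IsPushout (q.appLE ⊤ W le_top) (p.appLE ⊤ ⊤ le_top) (π.appLE W (π ⁻¹ᵁ W) le_rfl)
      (q'.appLE ⊤ (π ⁻¹ᵁ W) le_top) := (isIso_pushoutSection_iff H (US := ⊤) (UT := ⊤) (UX := W)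
    (UY := π ⁻¹ᵁ W) le_top le_top (by simp)).mp h1
  let τ : Γ(Y', π ⁻¹ᵁ W) := (π.app W).hom (resT Y W (glob q t))
  let J : Ideal Γ(Y', π ⁻¹ᵁ W) := Ideal.span {τ ^ n}
  let S : Subring Γ(Y', π ⁻¹ᵁ W) :=
    (((Ideal.Quotient.mk J).comp (π.app W).hom).range).comap (Ideal.Quotient.mk J)
  have hS : ∀ x : Γ(Y', π ⁻¹ᵁ W), x ∈ S ↔ ∃ b w, x = (π.app W).hom b + τ ^ n * w := by
    intro x
    change (∃ b, Ideal.Quotient.mk J ((π.app W).hom b) = Ideal.Quotient.mk J x) ↔ _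
    constructor
    · rintro ⟨b, hb⟩
      rw [eq_comm, Ideal.Quotient.eq, Ideal.mem_span_singleton] at hb
      obtain ⟨w, hw⟩ := hb
      exact ⟨b, w, by rw [← hw]; ring⟩
    · rintro ⟨b, w, rfl⟩
      refine ⟨b, ?_⟩
      rw [eq_comm, Ideal.Quotient.eq, Ideal.mem_span_singleton]
      exact ⟨w, by ring⟩
  rw [← hS]
  refine Basics.isPushout_induction h2 S (fun a => ?_) (fun c => ?_) z
  · rw [hS]
    refine ⟨a, 0, ?_⟩
    rw [mul_zero, add_zero, Scheme.Hom.app_eq_appLE]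
  · rw [hS]
    -- functions on `Spec R'`
    obtain ⟨r', rfl⟩ : ∃ r' : R', (Scheme.ΓSpecIso (CommRingCat.of R')).inv.hom r' = c :=
      (ConcreteCategory.bijective_of_isIso (Scheme.ΓSpecIso (CommRingCat.of R')).inv).2 c
    have hcomp : ∀ r : R, (q'.appLE ⊤ (π ⁻¹ᵁ W) le_top).hom
        ((Scheme.ΓSpecIso (CommRingCat.of R')).inv.hom (φ r)) =
        (π.app W).hom (resT Y W (glob q r)) := by
      intro r
      have e1 : (Scheme.ΓSpecIso (CommRingCat.of R')).inv.hom (φ r) =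
          p.appTop.hom ((Scheme.ΓSpecIso (CommRingCat.of R)).inv.hom r) :=
        congr($(congrArg CommRingCat.Hom.hom
          (Scheme.ΓSpecIso_inv_naturality (CommRingCat.ofHom φ))) r)
      have e2 : (p.appLE ⊤ ⊤ le_top).hom ((Scheme.ΓSpecIso (CommRingCat.of R)).inv.hom r) =
          p.appTop.hom ((Scheme.ΓSpecIso (CommRingCat.of R)).inv.hom r) := by
        rw [show p.appLE ⊤ ⊤ le_top = p.appTop from Scheme.Hom.appLE_eq_app _]
      rw [e1, ← e2]
      have e3 := congr($(congrArg CommRingCat.Hom.hom h2.w) ((Scheme.ΓSpecIso (CommRingCat.of R)).inv.hom r))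
      refine e3.symm.trans ?_
      change (π.appLE W (π ⁻¹ᵁ W) le_rfl).hom ((q.appLE ⊤ W le_top).hom _) = _
      rw [Scheme.Hom.app_eq_appLE]
      rfl
    obtain ⟨r, w, hw⟩ := hφ n r'
    refine ⟨resT Y W (glob q r), (q'.appLE ⊤ (π ⁻¹ᵁ W) le_top).hom
      ((Scheme.ΓSpecIso (CommRingCat.of R')).inv.hom w), ?_⟩
    change (q'.appLE ⊤ (π ⁻¹ᵁ W) le_top).hom ((Scheme.ΓSpecIso (CommRingCat.of R')).inv.hom r') = _
    rw [hw, map_add, map_add, map_mul, map_mul, map_pow, map_pow, hcomp, hcomp]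

/-- Descent of ideal sheaves supported on `V(t)`. -/
theorem comap_map_eq (I : Y'.IdealSheafData)
    (hI : I.support ≤ ((idl (Ideal.span {t})).comap (π ≫ q)).support) : (I.map π).comap π = I := by
  have hπ : IsAffineHom π := MorphismProperty.of_isPullback (P := @IsAffineHom) H.flip inferInstance
  refine ext_of_forall_mem fun y' => ?_
  obtain ⟨W, hW, hyW, -⟩ := exists_isAffineOpen_mem_and_subset (U := ⊤) (x := π y') trivial
  have hV : IsAffineOpen (π ⁻¹ᵁ W) := hW.preimage π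
  refine ⟨⟨π ⁻¹ᵁ W, hV⟩, hyW, ?_⟩
  rw [ideal_comap (I.map π) π ⟨W, hW⟩ ⟨π ⁻¹ᵁ W, hV⟩ le_rfl,
    Scheme.IdealSheafData.ideal_map_of_isAffineHom, ← Scheme.Hom.app_eq_appLE]
  apply le_antisymm
  · exact Ideal.map_comap_le
  · intro z hz
    -- a power of `t` lies in the ideal
    have h1 : resT Y' (π ⁻¹ᵁ W) (glob (π ≫ q) t) ∈ (I.ideal ⟨π ⁻¹ᵁ W, hV⟩).radical := by
      have h2 := Basics.le_radical_of_support_le hI ⟨π ⁻¹ᵁ W, hV⟩
      apply h2
      rw [comap_idl_ideal]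
      exact Ideal.mem_map_of_mem _ (Ideal.mem_span_singleton_self t)
    have h3 : resT Y' (π ⁻¹ᵁ W) (glob (π ≫ q) t) = (π.app W).hom (resT Y W (glob q t)) := by
      rw [glob_comp, RingHom.comp_apply, resT_appTop π W (π ⁻¹ᵁ W) le_rfl, ← Scheme.Hom.app_eq_appLE]
    rw [h3] at h1
    obtain ⟨n, hn⟩ := h1
    obtain ⟨b, w, rfl⟩ := exists_eq_add φ t hφ H hW n z
    have h4 : (π.app W).hom b ∈ I.ideal ⟨π ⁻¹ᵁ W, hV⟩ := by
      have := Ideal.sub_mem _ hz (Ideal.mul_mem_right w _ hn)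
      simpa using this
    refine Ideal.add_mem _ (Ideal.mem_map_of_mem _ (show b ∈ Ideal.comap _ _ from h4))
      (Ideal.mul_mem_right _ _ ?_)
    rw [← map_pow]
    refine Ideal.mem_map_of_mem _ (show _ ∈ Ideal.comap _ _ from ?_)
    rw [Ideal.mem_comap, map_pow]
    exact hn

omit hφ in
/-- The support of the descended ideal. -/
theorem support_map_le (I : Y'.IdealSheafData)
    (hI : I.support ≤ ((idl (Ideal.span {t})).comap (π ≫ q)).support) :
    (I.map π).support ≤ ((idl (Ideal.span {t})).comap q).support := by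
  have hπ : IsAffineHom π := MorphismProperty.of_isPullback (P := @IsAffineHom) H.flip inferInstance
  rw [Scheme.IdealSheafData.support_map, TopologicalSpace.Closeds.closure_le]
  rintro _ ⟨y, hy, rfl⟩
  have h1 := hI hy
  rw [Scheme.IdealSheafData.support_comap] at h1 ⊢
  exact h1

end K483.ComplDescent
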