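import Groth.Agent.BlowUp.K483.EulerP2
import Groth.Agent.S0024
import Groth.Agent.Lefpen.H717.ProjIrr
import Mathlib.AlgebraicGeometry.Morphisms.Proper

/-!
# The Euler characteristic of `O(t)` on `P^n` over an isomorphic field
-/

set_option autoImplicit false
universe u
open CategoryTheory CategoryTheory.Limits AlgebraicGeometry

namespace K483.EulerField

open Groth.Agent

/-- The Euler characteristic over a field isomorphic to the base field. -/
theorem euler_field {k κ : Type u} [Field k] [Field κ] (φ : k →+* κ) (hφ : Function.Bijective φ)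
    (X : Scheme.{u}) (f : X ⟶ Spec (CommRingCat.of κ)) (F : X.Modules) :
    @Curv2.euler k _ X ⟨f ≫ Spec.map (CommRingCat.ofHom φ)⟩ F = @Curv2.euler κ _ X ⟨f⟩ F := by
  unfold Curv2.euler
  refine finsum_congr fun i => ?_
  congr 2
  unfold Module.finrank
  congr 1
  let i1 : Module k (Coh.HH X F i) := @Coh.moduleOver k _ X ⟨f ≫ Spec.map (CommRingCat.ofHom φ)⟩ F i
  let i2 : Module κ (Coh.HH X F i) := @Coh.moduleOver κ _ X ⟨f⟩ F i
  refine rank_eq_of_equiv_equiv φ (AddEquiv.refl (Coh.HH X F i)) hφ ?_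
  intro r m
  have h : Coh.toGlobal (f ≫ Spec.map (CommRingCat.ofHom φ)) r = Coh.toGlobal f (φ r) := by
    change ((f ≫ Spec.map (CommRingCat.ofHom φ)).appTop).hom _ = f.appTop.hom _
    rw [Scheme.Hom.comp_appTop]
    change f.appTop.hom (((Spec.map (CommRingCat.ofHom φ)).appTop).hom _) = _
    congr 1
    have h1 := Scheme.ΓSpecIso_inv_naturality (CommRingCat.ofHom φ)
    exact (congrArg (fun g => g.hom r) h1).symm
  change Coh.toGlobal (f ≫ Spec.map (CommRingCat.ofHom φ)) r • m = Coh.toGlobal f (φ r) • m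
  rw [h]

theorem toSpecΓ_SpecMap_eq {X : Scheme.{u}} {C : CommRingCat.{u}} (f : X ⟶ Spec C) :
    X.toSpecΓ ≫ Spec.map ((Scheme.ΓSpecIso C).inv ≫ f.appTop) = f := by
  rw [Spec.map_comp, ← Scheme.toSpecΓ_naturality_assoc]
  simp

/-- A proper morphism from projective space over a field `κ` to the spectrum of an algebraically closed field `k` is the
structure morphism followed by an isomorphism. -/
theorem exists_scalar (k κ : Type u) [Field k] [IsAlgClosed k] [Field κ] (n : ℕ)
    (q : CohB1.ProjSpace n κ ⟶ Spec (CommRingCat.of k)) [IsProper q] :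
    ∃ φ : k →+* κ, Function.Bijective φ ∧
      q = CohB1.ProjSpace.toSpec n κ ≫ Spec.map (CommRingCat.ofHom φ) := by
  have h1 : IsIso (CohB1.ProjSpace.toSpec n κ).appTop := S0024.result n κ
  let ψ : CommRingCat.of k ⟶ CommRingCat.of κ :=
    ((Scheme.ΓSpecIso (CommRingCat.of k)).inv ≫ q.appTop) ≫
      inv ((Scheme.ΓSpecIso (CommRingCat.of κ)).inv ≫ (CohB1.ProjSpace.toSpec n κ).appTop)
  have hfin : ψ.hom.Finite := by
    have h2 : q.appTop.hom.Finite := finite_appTop_of_universallyClosed k q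
    have h3 := (ConcreteCategory.bijective_of_isIso
      (inv ((Scheme.ΓSpecIso (CommRingCat.of κ)).inv ≫ (CohB1.ProjSpace.toSpec n κ).appTop))).2
    have h4 := (ConcreteCategory.bijective_of_isIso (Scheme.ΓSpecIso (CommRingCat.of k)).inv).2
    exact RingHom.Finite.comp (RingHom.Finite.of_surjective _ h3) (RingHom.Finite.comp h2
      (RingHom.Finite.of_surjective _ h4))
  refine ⟨ψ.hom, ?_, ?_⟩
  · let _ := ψ.hom.toAlgebra
    have : Module.Finite k κ := hfin
    exact IsAlgClosed.algebraMap_bijective_of_isIntegral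
  · have h3 := toSpecΓ_SpecMap_eq q
    have h4 := toSpecΓ_SpecMap_eq (CohB1.ProjSpace.toSpec n κ)
    have h5 : CommRingCat.ofHom ψ.hom = ψ := rfl
    rw [h5]
    conv_rhs => rw [← h4]
    rw [Category.assoc, ← Spec.map_comp]
    conv_lhs => rw [← h3]
    congr 2
    rw [Category.assoc, IsIso.inv_hom_id, Category.comp_id]

/-- The Euler characteristic over `k` of `O(t)` on `P^n` over an isomorphic field. -/
theorem euler_twist (k κ : Type u) [Field k] [IsAlgClosed k] [Field κ] (n : ℕ)
    (q : CohB1.ProjSpace n κ ⟶ Spec (CommRingCat.of k)) [IsProper q] (t : ℤ) :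
    @Curv2.euler k _ (CohB1.ProjSpace n κ) ⟨q⟩ (Twist.twistProjSpace n κ t) = VarietyB.EulerBinom.c n t := by
  obtain ⟨φ, hφ, rfl⟩ := exists_scalar k κ n q
  rw [euler_field φ hφ]
  exact VarietyB.EulerBinom.euler_twist κ n t

end K483.EulerField
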