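import Groth.Agent.VarietyB.EulerBinom

/-!
# The Euler characteristic of `O(a)` on the projective line and on the projective plane
-/

set_option autoImplicit false
universe u
open CategoryTheory CategoryTheory.Limits AlgebraicGeometry

namespace K483.EulerP2

open Groth.Agent.VarietyB.EulerBinom Groth.Agent.VarietyB.EulerDiff

theorem N_zero (n : ℕ) : N n 0 = 1 := by
  have h : {m : Fin (n + 1) →₀ ℕ | m.degree = 0} = {0} := by
    ext m
    simp [Finsupp.degree_eq_zero_iff]
  have : N n 0 = Nat.card ↥({m : Fin (n + 1) →₀ ℕ | m.degree = 0}) := rfl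
  rw [this, h]
  simp

theorem c_zero (n : ℕ) : c n 0 = 1 := by
  rw [c, if_pos le_rfl, Int.toNat_zero, N_zero, Nat.cast_one]

theorem c_neg (n : ℕ) (t : ℤ) (h0 : t < 0) (h1 : -((n : ℤ) + 1) < t) : c n t = 0 := by
  rw [c, if_neg (by omega), if_neg (by omega)]

theorem dl_c (n : ℕ) : dl^[n + 1] (c n) = fun _ => 0 := by
  have h := dl_euler ℚ n (isCoh_structure ℚ n)
  have h1 : (fun a => Curv2.euler ℚ (CohB1.ProjSpace n ℚ)
      (CohB1.tensorMod (Coh.structureModule (CohB1.ProjSpace n ℚ))
        (Twist.twistProjSpace n ℚ a))) = c n := by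
    funext a
    rw [← euler_twist ℚ n a]
    exact euler_iso _ _ (Groth.Agent.PerfB.TensUnit.unitTensor _)
  rwa [h1] at h

theorem c_one (t : ℤ) : c 1 t = t + 1 := by
  have h := dl_c 1
  simp only [Function.iterate_succ, Function.iterate_zero, Function.comp, id] at h
  have hm := c_neg 1 (-1) (by norm_num) (by norm_num)
  have h0 := c_zero 1
  have h1 : dl (fun s => c 1 (s - 1)) = fun _ => 1 := by
    refine eq_of_dl_eq _ _ ?_ ?_
    · funext s
      have := congrFun h (s - 1)
      simp only [dl] at this ⊢
      rw [sub_self, ← this]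
      ring_nf
    · simp only [dl]
      norm_num [hm, h0]
  have h2 : (fun s => c 1 (s - 1)) = fun s => s := by
    refine eq_of_dl_eq _ _ ?_ ?_
    · rw [h1]
      funext s
      simp [dl]
    · norm_num [hm]
  have h3 := congrFun h2 (t + 1)
  simpa using h3

theorem two_mul_c_two (a : ℤ) : 2 * c 2 a = a * a + 3 * a + 2 := by
  have h := dl_c 2
  simp only [Function.iterate_succ, Function.iterate_zero, Function.comp, id] at h
  have hm := c_neg 2 (-1) (by norm_num) (by norm_num)
  have hm2 := c_neg 2 (-2) (by norm_num) (by norm_num)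
  have h0 := c_zero 2
  have h1 : dl (dl (fun s => c 2 (s - 2))) = fun _ => 1 := by
    refine eq_of_dl_eq _ _ ?_ ?_
    · funext s
      have := congrFun h (s - 2)
      simp only [dl] at this ⊢
      rw [sub_self, ← this]
      ring_nf
    · simp only [dl]
      norm_num [hm, h0, hm2]
  have h2 : dl (fun s => c 2 (s - 2)) = fun s => s := by
    refine eq_of_dl_eq _ _ ?_ ?_
    · rw [h1]
      funext s
      simp [dl]
    · simp only [dl]
      norm_num [hm, hm2]
  have h3 : (fun s => 2 * c 2 (s - 2)) = fun s => s * (s - 1) := by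
    refine eq_of_dl_eq _ _ ?_ ?_
    · funext s
      have := congrFun h2 s
      simp only [dl] at this ⊢
      linear_combination 2 * this
    · norm_num [hm2]
  have h4 := congrFun h3 (a + 2)
  simp only [add_sub_cancel_right] at h4
  rw [h4]
  ring

theorem c_two (a : ℤ) : c 2 a = (a * a + 3 * a) / 2 + 1 := by
  have := two_mul_c_two a
  omega

end K483.EulerP2
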