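import Groth.Agent.BlowUp.K483.BlowUnit
import Groth.Agent.BlowUp.K483.EulerField
import Groth.Agent.Dix.ExcCurve
import Groth.Agent.Krr.H501.StalkLen
import Groth.Agent.Fga.HodgePush
import Groth.Agent.Flat2C.BlowProper
import Groth.Agent.CurvesC.DegIso
import Groth.Agent.S2329

/-!
# The Euler characteristic of line bundles on the blow-up of a point on a regular proper surface

`χ(X, σ^* M ⊗ J^b) = χ(Y, M) - b (b + 1) / 2`.
-/

set_option autoImplicit false
universe u
open CategoryTheory CategoryTheory.Limits AlgebraicGeometry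

namespace K483.ExcChi

open Groth.Agent Groth.Agent.Dix.PointIdeal
open scoped Pointwise

theorem isWeaklyRegular_pair {A : Type u} [CommRing A] [IsRegularLocalRing A] (hA : ringKrullDim A = 2) {a b : A}
    (hab : Ideal.span {a, b} = IsLocalRing.maximalIdeal A) : RingTheory.Sequence.IsWeaklyRegular A [a, b] := by
  have := CalgA.RegBasic.isDomain A
  have hp := CurvesC.BlowUpRegAlg.isPrime_span_left hA hab
  have hb := CurvesC.BlowUpRegAlg.right_notMem_span_left hA hab
  have ha := CurvesC.BlowUpRegAlg.left_ne_zero hA hab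
  refine RingTheory.Sequence.IsWeaklyRegular.cons ?_ (RingTheory.Sequence.IsWeaklyRegular.cons ?_
    (RingTheory.Sequence.IsWeaklyRegular.nil _ _))
  · intro x y h
    exact mul_left_cancel₀ ha h
  · refine (isSMulRegular_quotient_iff_mem_of_smul_mem (a • (⊤ : Submodule A A)) b).2 fun x hx => ?_
    rw [Submodule.mem_smul_pointwise_iff_exists] at hx ⊢
    obtain ⟨w, -, hw⟩ := hx
    have h3 : b * x ∈ Ideal.span {a} := Ideal.mem_span_singleton'.2 ⟨w, by rw [mul_comm]; exact hw⟩
    obtain ⟨v, hv⟩ := Ideal.mem_span_singleton'.1 ((hp.mem_or_mem h3).resolve_left hb)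
    exact ⟨v, trivial, by rw [smul_eq_mul, mul_comm]; exact hv⟩

/-- The reduced closed subscheme of a closed point with regular two-dimensional local ring is regularly immersed. -/
theorem regular_pt {Y : Scheme.{u}} [IsLocallyNoetherian Y] (y : Y) (hy : IsClosed ({y} : Set Y))
    [IsRegularLocalRing (Y.presheaf.stalk y)] (hdim : ringKrullDim (Y.presheaf.stalk y) = 2) :
    Mor2.IsRegularClosedImmersion (pt y hy).subschemeι ∧
      FlatMod.IsFinLocFreeOfRank 2 (Omega.conormal (pt y hy).subschemeι) := by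
  rw [Krr.H501.RegLen.isRegular_and_rank_iff]
  intro z
  have hz : (pt y hy).subschemeι z = y := by
    rw [← mem_support_pt y hy]
    have : (pt y hy).subschemeι z ∈ Set.range (pt y hy).subschemeι := ⟨z, rfl⟩
    rwa [Scheme.IdealSheafData.range_subschemeι] at this
  rw [Scheme.IdealSheafData.ker_subschemeι, hz, Krr.H501.StalkLen.regAtLen_iff_stalk, stalkIdeal_pt]
  obtain ⟨a, b, hab⟩ := CurvesC.BlowUpReg.exists_generators (Y.presheaf.stalk y) hdim
  refine ⟨[a, b], isWeaklyRegular_pair hdim hab, rfl, ?_⟩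
  rw [← hab, Ideal.ofList]
  congr 1
  ext w
  simp

/-- The pull-back of an invertible module under a morphism with image one point is trivial. -/
theorem pullback_trivial {Z Y : Scheme.{u}} (g : Z ⟶ Y) (y : Y) (hg : ∀ z, g z = y) {M : Y.Modules}
    (hM : PicF.IsInvertible M) : Nonempty ((Scheme.Modules.pullback g).obj M ≅ Coh.structureModule Z) := by
  obtain ⟨U, hyU, ⟨e⟩⟩ := hM y
  have hle : Set.range g ⊆ Set.range U.ι := by
    rintro _ ⟨z, rfl⟩
    rw [hg z]
    simpa using hyU
  let l := IsOpenImmersion.lift U.ι g hle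
  have hl : l ≫ U.ι = g := IsOpenImmersion.lift_fac _ _ _
  exact ⟨(Scheme.Modules.pullbackCongr hl).symm.app M ≪≫ (Scheme.Modules.pullbackComp l U.ι).symm.app M ≪≫
    (Scheme.Modules.pullback l).mapIso ((Scheme.Modules.restrictFunctorIsoPullback U.ι).symm.app M ≪≫ e) ≪≫
    Krr.H482.PullTens.pullUnitIso l⟩

theorem nonempty_tensorPow {X : Scheme.{u}} {n : ℕ} {R : Type u} [CommRing R] (i : CohB1.ProjSpace n R ⟶ X)
    {L : X.Modules} (e : (Scheme.Modules.pullback i).obj L ≅ Twist.twistProjSpace n R 1) (b : ℕ) :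
    Nonempty ((Scheme.Modules.pullback i).obj (CohB1.tensorPow L b) ≅ Twist.twistProjSpace n R (b : ℤ)) := by
  induction b with
  | zero =>
    obtain ⟨e1⟩ := Ega2.TwistInv.nonempty_unit_iso (CohB1.polyGrading n R)
    exact ⟨Krr.H482.PullTens.pullUnitIso i ≪≫ e1⟩
  | succ k ih =>
    obtain ⟨e1⟩ := ih
    obtain ⟨e2⟩ := Sga67.TwistProj.nonempty_mul n R (k : ℤ) 1
    have h : (k : ℤ) + 1 = ((k + 1 : ℕ) : ℤ) := by push_cast; ring
    rw [h] at e2
    exact ⟨Krr.H482.PullTens.pullTensorIso i (CohB1.tensorPow L k) L ≪≫ Ega2.Tens.mapTIso e1 e ≪≫ e2⟩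

section

variable (k : Type u) [Field k] [IsAlgClosed k] {Y X : Scheme.{u}} [Y.Over (Spec (CommRingCat.of k))]
  [X.Over (Spec (CommRingCat.of k))] [IsProper (Y ↘ Spec (CommRingCat.of k))]
  (hY : ∀ y : Y, IsRegularLocalRing (Y.presheaf.stalk y)) (p : Y) (hp : IsClosed ({p} : Set Y))
  (hdim : ringKrullDim (Y.presheaf.stalk p) = 2) (σ : X ⟶ Y)
  (hσk : σ ≫ (Y ↘ Spec (CommRingCat.of k)) = X ↘ Spec (CommRingCat.of k))
  (hσ : BlowUp.IsBlowUp σ (pt p hp))

include hY hdim hσk hσ in
theorem two_mul_euler_blowUp {M : Y.Modules} (hM : PicF.IsInvertible M) (b : ℕ) :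
    2 * Curv2.euler k X (CohB1.tensorMod ((Scheme.Modules.pullback σ).obj M)
      (CohB1.tensorPow (ClSub.idealMod ((pt p hp).comap σ)) b)) = 2 * Curv2.euler k Y M - b * (b + 1) := by
  have hN : IsLocallyNoetherian Y := LocallyOfFiniteType.isLocallyNoetherian (Y ↘ Spec (CommRingCat.of k))
  have hc : CompactSpace Y := QuasiCompact.compactSpace_of_compactSpace (Y ↘ Spec (CommRingCat.of k))
  have hN' : AlgebraicGeometry.IsNoetherian Y := {}
  have := hY p
  obtain ⟨hreg, hrk⟩ := regular_pt p hp hdim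
  have hker : (pt p hp).subschemeι.ker = pt p hp := Scheme.IdealSheafData.ker_subschemeι _
  have hσ' : BlowUp.IsBlowUp σ (pt p hp).subschemeι.ker := by rwa [hker]
  have hpr : IsProper σ := Flat2C.BlowProper.isProper_of_isBlowUp hσ fun U => by
    have := IsLocallyNoetherian.component_noetherian U
    exact IsNoetherian.noetherian _
  have hXp : IsProper (X ↘ Spec (CommRingCat.of k)) := by
    rw [← hσk]
    infer_instance
  have hXN : IsLocallyNoetherian X := LocallyOfFiniteType.isLocallyNoetherian (X ↘ Spec (CommRingCat.of k))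
  have hMf : FlatMod.IsFinLocFree M :=
    Ega2.QCohLocal.isFinLocFree_of_rank (Ega2.QCohLocal.isFinLocFreeOfRank_one_iff.2 hM)
  have hMX : PicF.IsInvertible ((Scheme.Modules.pullback σ).obj M) := Fdesc.LocGen.isInvertible_pullback σ hM
  have hJ : PicF.IsInvertible (ClSub.idealMod ((pt p hp).comap σ)) := Ega1.IdealGen.isInvertible_idealMod _ hσ.1
  have hT : ∀ b : ℕ, PicF.IsInvertible (CohB1.tensorMod ((Scheme.Modules.pullback σ).obj M)
      (CohB1.tensorPow (ClSub.idealMod ((pt p hp).comap σ)) b)) := fun b =>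
    Fdesc.LocGen.isInvertible_tensorMod hMX (Krr.H446.BlowDesc.isInvertible_pow hJ b)
  have hcoh : ∀ {Z : Scheme.{u}} {L : Z.Modules}, PicF.IsInvertible L → Coh.IsCoh L := fun {Z L} hL =>
    S2329.isCoh_of_isInvertible hL
  induction b with
  | zero =>
    have h1 : Curv2.euler k X (CohB1.tensorMod ((Scheme.Modules.pullback σ).obj M)
        (CohB1.tensorPow (ClSub.idealMod ((pt p hp).comap σ)) 0)) =
        Curv2.euler k X ((Scheme.Modules.pullback σ).obj M) :=
      Fga.HodgePush.euler_congr k X (Ega2.Tens.runit _)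
    have h2 : Curv2.euler k X ((Scheme.Modules.pullback σ).obj M) =
        Curv2.euler k Y ((Coh.push σ).obj ((Scheme.Modules.pullback σ).obj M)) :=
      Fga.HodgePush.euler_push k Y X σ hσk _ (hcoh hMX) fun q hq =>
        BlowUnit.van_pullback _ hreg hrk σ hσ' (by norm_num) hMf q hq
    have h3 : IsIso ((Scheme.Modules.pullbackPushforwardAdjunction σ).unit.app M) :=
      BlowUnit.isIso_unit _ hreg (by norm_num) hrk σ hσ' hY hMf
    have h4 : Curv2.euler k Y M = Curv2.euler k Y ((Coh.push σ).obj ((Scheme.Modules.pullback σ).obj M)) :=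
      Fga.HodgePush.euler_congr k Y (asIso ((Scheme.Modules.pullbackPushforwardAdjunction σ).unit.app M))
    rw [h1, h2, ← h4]
    simp
  | succ b ih =>
    obtain ⟨i, hi, hik, ⟨ε⟩⟩ := Dix.ExcCurve.exists_curve σ p hp hdim hσ
    let κ := Y.presheaf.stalk p ⧸ IsLocalRing.maximalIdeal (Y.presheaf.stalk p)
    let _ : Field κ := Ideal.Quotient.field _
    let J := ClSub.idealMod ((pt p hp).comap σ)
    let T : ℕ → X.Modules := fun b => CohB1.tensorMod ((Scheme.Modules.pullback σ).obj M) (CohB1.tensorPow J b)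
    let S := VarietyB.RestrSeq.restrSeq (Krr.H446.BlowDesc.hasBases_of_isInvertible (hT b)) ((pt p hp).comap σ)
    have hS : S.ShortExact := VarietyB.RestrSeq.restrSeq_shortExact _ _
    let q : CohB1.ProjSpace 1 κ ⟶ Spec (CommRingCat.of k) := i ≫ (X ↘ Spec (CommRingCat.of k))
    have hq : IsProper q := inferInstance
    let _ : (CohB1.ProjSpace 1 κ).Over (Spec (CommRingCat.of k)) := ⟨q⟩
    -- the first term
    let e₁ : S.X₁ ≅ T (b + 1) := Ega2.Tens.assoc _ _ _
    -- the third term
    obtain ⟨e₃⟩ := Krr.H446.BlowDesc.nonempty_push_pull_iso i ((pt p hp).comap σ) hik (T b)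
    rw [hik] at ε
    obtain ⟨e₄⟩ := nonempty_tensorPow i ε b
    have hpt : ∀ z, (i ≫ σ) z = p := by
      intro z
      rw [← mem_support_pt p hp]
      have h1 : i z ∈ ((pt p hp).comap σ).support := by
        rw [← hik]
        exact i.range_subset_ker_support ⟨z, rfl⟩
      rw [Scheme.IdealSheafData.support_comap] at h1
      exact h1
    obtain ⟨e₅⟩ := pullback_trivial (i ≫ σ) p hpt hM
    have e₆ : (Scheme.Modules.pullback i).obj (T b) ≅ Twist.twistProjSpace 1 κ (b : ℤ) :=
      Krr.H482.PullTens.pullTensorIso i _ _ ≪≫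
        Ega2.Tens.mapTIso ((Scheme.Modules.pullbackComp i σ).app M ≪≫ e₅) e₄ ≪≫ Ega2.Tens.lunit _
    have hX₃ : Curv2.euler k X S.X₃ = b + 1 := by
      have h1 : Curv2.euler k X S.X₃ = Curv2.euler k X ((Scheme.Modules.pushforward i).obj
        ((Scheme.Modules.pullback i).obj (T b))) := Fga.HodgePush.euler_congr k X e₃.symm
      rw [h1, CurvesC.DegIso.euler_push k i rfl, Fga.HodgePush.euler_congr k _ e₆,
        ← EulerP2.c_one]
      exact EulerField.euler_twist k κ 1 q b
    have hadd := S1524.result k X S hS (Sga67.CohBasic.isCoh_of_iso e₁.symm (hcoh (hT (b + 1)))) (hcoh (hT b))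
      (Sga67.CohBasic.isCoh_of_iso e₃ (Fga.HodgePush.isCoh_push i
        (hcoh (Fdesc.LocGen.isInvertible_pullback i (hT b)))))
    have h7 : Curv2.euler k X S.X₁ = Curv2.euler k X (T (b + 1)) := Fga.HodgePush.euler_congr k X e₁
    rw [hX₃, h7] at hadd
    change 2 * Curv2.euler k X (T b) = _ at ih
    change 2 * Curv2.euler k X (T (b + 1)) = _
    have h8 : Curv2.euler k X (T b) = Curv2.euler k X (T (b + 1)) + (b + 1) := hadd
    rw [h8] at ih
    push_cast
    linear_combination ih

end

end K483.ExcChi
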