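import Groth.Prelude.Def_RegImm
import Groth.Agent.Krr.H501.RegLen
import Groth.Agent.Krr.H496.ExcBundle
import Groth.Agent.Krr.H471.HVan
import Groth.Agent.Krr.H471.PBTwist
import Groth.Agent.Krr.H471.ChartTwist
import Groth.Agent.Krr.H446.BlowDesc
import Groth.Agent.Sga2.ThickCoh
import Groth.Agent.Sga67.BlowReg
import Groth.Agent.S2122

/-!
# Direct images of twists of the exceptional divisor of the blow-up of a regular immersion

Let `i : S ⟶ Y` be a regular closed immersion of codimension `r + 1`, `σ : X ⟶ Y` the blow-up of `Y` in `S`, and `J` the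
ideal of the exceptional divisor.
-/

set_option autoImplicit false
universe u
open CategoryTheory CategoryTheory.Limits AlgebraicGeometry

namespace K483.ExcVan

open Groth.Agent Groth.Agent.Krr.H455.RelCast Groth.Agent.Krr.H471.ChartVan Groth.Agent.Krr.H446.BlowDesc

variable {S Y X : Scheme.{u}}

/-- A closed immersion, regular of codimension `d`, has a conormal module of rank `d`. -/
theorem regular_and_rank (i : S ⟶ Y) [IsClosedImmersion i] {d : ℕ}
    (hi : RegImm.IsRegularImmersionOfCodim .regular d i) :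
    Mor2.IsRegularClosedImmersion i ∧ FlatMod.IsFinLocFreeOfRank d (Omega.conormal i) := by
  rw [Krr.H501.RegLen.isRegular_and_rank_iff]
  intro z
  obtain ⟨U, hz, -, rs, hl, hrs, hker⟩ := hi.2 z
  have hrs' : RingTheory.Sequence.IsRegular Γ(Y, U.1) rs := hrs
  refine ⟨U, hz, rs, hrs'.toIsWeaklyRegular, hl, ?_⟩
  rw [← hker, Scheme.Hom.ker_apply]

section

variable (i : S ⟶ Y) [IsClosedImmersion i] (hreg : Mor2.IsRegularClosedImmersion i) {r : ℕ}
  (hrk : FlatMod.IsFinLocFreeOfRank (r + 1) (Omega.conormal i)) (σ : X ⟶ Y) (hσ : BlowUp.IsBlowUp σ i.ker)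

theorem ker_fst : (pullback.fst σ i).ker = i.ker.comap σ :=
  Sga67.BlowReg.ker_of_isPullback (IsPullback.of_hasPullback σ i)

include hreg hrk hσ in
/-- The ideal of the exceptional divisor restricts to `O(1)` on the exceptional divisor. -/
theorem isTwist_exc [CompactSpace S] :
    IsTwist r (pullback.snd σ i) ((Scheme.Modules.pullback (pullback.fst σ i)).obj
      (ClSub.idealMod (i.ker.comap σ))) 1 := by
  have h := Krr.H471.PBTwist.isTwist_of_isProjBundle hrk
    (Krr.H496.ExcBundle.isProjBundle_exc hreg hσ (IsPullback.of_hasPullback σ i))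
  rw [Omega.conormal, ker_fst] at h
  exact h

omit [IsClosedImmersion i] in
theorem comp_eq : pullback.fst σ i ≫ σ = pullback.snd σ i ≫ i := pullback.condition

include hreg hrk hσ in
theorem van_exc_pow [CompactSpace S] [QuasiCompact σ] [QuasiSeparated σ] (n q : ℕ) (hq : 1 ≤ q) :
    Van (pullback.snd σ i) q ((Scheme.Modules.pullback (pullback.fst σ i)).obj
      (CohB1.tensorPow (ClSub.idealMod (i.ker.comap σ)) n)) :=
  Krr.H471.HVan.isZero_RpushAb_pullback_tensorPow (pullback.fst σ i)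
    (Ega1.IdealGen.isInvertible_idealMod _ hσ.1) (isTwist_exc i hreg hrk σ hσ) n q hq

include hreg hrk hσ in
/-- `R^q ψ_* (e^* L) = 0` for all `q`, where `L ⊗ J ≅ O_X` and the codimension is at least two. -/
theorem van_exc_neg [CompactSpace S] [QuasiCompact σ] [QuasiSeparated σ] (hr : 1 ≤ r) (L : X.Modules)
    (hL : ClSub.IsInverseOf L (ClSub.idealMod (i.ker.comap σ))) (q : ℕ) :
    Van (pullback.snd σ i) q ((Scheme.Modules.pullback (pullback.fst σ i)).obj L) := by
  obtain ⟨ε⟩ := hL
  let e := pullback.fst σ i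
  let ψ := pullback.snd σ i
  let O1 := (Scheme.Modules.pullback e).obj (ClSub.idealMod (i.ker.comap σ))
  let N := (Scheme.Modules.pullback e).obj L
  have ε' : ((DCoh.tensorBi (X := pullback σ i)).obj O1).obj N ≅ Coh.structureModule _ :=
    Ega2.Tens.swap O1 N ≪≫ (Krr.H482.PullTens.pullTensorIso e L _).symm ≪≫
      (Scheme.Modules.pullback e).mapIso ε ≪≫ Krr.H482.PullTens.pullUnitIso e
  have hLinv : PicF.IsInvertible L := S2122.result L _ ε
  have hN : PicF.IsInvertible N := Fdesc.LocGen.isInvertible_pullback e hLinv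
  have hNf : FlatMod.IsFinLocFree N :=
    Ega2.QCohLocal.isFinLocFree_of_rank (Ega2.QCohLocal.isFinLocFreeOfRank_one_iff.2 hN)
  have h1 := Krr.H471.ChartTwist.isTwist_W (isTwist_exc i hreg hrk σ hσ) ε' 1
  have h2 := Krr.H471.ChartVan.isZero_Rpush h1 (Krr.H471.ChartTwist.isFinLocFree_W hNf 1)
    (Sga67.TensorOps.isFinLocFree_structureModule (X := S)) q (Or.inr ⟨by push_cast; omega, by norm_num⟩)
  refine (Ega3B.RpushAbCmp.isZero_RpushAb_iff ψ N q).2 (h2.of_iso ((Coh.Rpush ψ q).mapIso ?_))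
  exact (Ega2.Tens.mapTIso (Ega2.Tens.runit N) (Krr.H482.PullTens.pullUnitIso ψ) ≪≫ Ega2.Tens.runit N).symm

include hreg hrk hσ in
/-- `R^q σ_* (O_D(n)) = 0` for `q ≥ 1`, `n ≥ 0`. -/
theorem van_pow [CompactSpace S] [QuasiCompact σ] [QuasiSeparated σ] (n q : ℕ) (hq : 1 ≤ q) :
    Van σ q ((Scheme.Modules.pushforward (i.ker.comap σ).subschemeι).obj
      ((Scheme.Modules.pullback (i.ker.comap σ).subschemeι).obj (ClSub.idealMod ((i.ker.comap σ) ^ n)))) := by
  obtain ⟨ε⟩ := Sga2.ThickCoh.idealMod_pow hσ.1 n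
  refine van_push_pull (pullback.fst σ i) _ (ker_fst i σ) σ q _ ?_
  rw [comp_eq]
  refine van_comp_closed _ i q _ ?_
  exact van_of_iso _ _ ((Scheme.Modules.pullback (pullback.fst σ i)).mapIso ε) (van_exc_pow i hreg hrk σ hσ n q hq)

include hreg hrk hσ in
/-- `R^q σ_* (O_D(-1)) = 0` for all `q`. -/
theorem van_neg [CompactSpace S] [QuasiCompact σ] [QuasiSeparated σ] (hr : 1 ≤ r) (L : X.Modules)
    (hL : ClSub.IsInverseOf L (ClSub.idealMod (i.ker.comap σ))) (q : ℕ) :
    Van σ q ((Scheme.Modules.pushforward (i.ker.comap σ).subschemeι).obj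
      ((Scheme.Modules.pullback (i.ker.comap σ).subschemeι).obj L)) := by
  refine van_push_pull (pullback.fst σ i) _ (ker_fst i σ) σ q _ ?_
  rw [comp_eq]
  exact van_comp_closed _ i q _ (van_exc_neg i hreg hrk σ hσ hr L hL q)

end

end K483.ExcVan
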