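import Groth.Agent.BlowUp.K483.AffineBase
import Groth.Agent.Ega2.BlowBasic
import Mathlib.AlgebraicGeometry.Morphisms.Finite
import Mathlib.AlgebraicGeometry.Noetherian

/-!
A finite morphism of reduced Noetherian schemes which is an isomorphism off an effective Cartier divisor with dense
preimage of the complement is a blowing up.
-/

set_option autoImplicit false
universe u

open CategoryTheory AlgebraicGeometry Limits BlowUp TopologicalSpace

namespace K483.FiniteBir

open Groth.Agent.Divis Groth.Agent.Divis.BlowChart Groth.Agent.Divis.BlowUpFormal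
open Groth.Agent.Divis.IdealComap Groth.Agent.Ega2.BlowBasic

/-- The algebra: if `s ^ n B ⊆ A ⊆ B` and `s` is a nonzerodivisor of `B`, then `Spec B ⟶ Spec A` is the blowing up
of the ideal `s ^ n B` of `A`. -/
theorem isBlowUp_of_conductor {A B : Type u} [CommRing A] [CommRing B] (φ : A →+* B)
    (hinj : Function.Injective φ) (t : A) (ht : φ t ∈ nonZeroDivisors B)
    (h : ∀ b : B, ∃ a : A, φ a = φ t * b) :
    IsBlowUp (Spec.map (CommRingCat.ofHom φ)) (idl ((Ideal.span {φ t}).comap φ)) := by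
  let _ := φ.toAlgebra
  have hgen : Ideal.map (algebraMap A B) ((Ideal.span {φ t}).comap φ) = Ideal.span {φ t} := by
    apply le_antisymm
    · exact Ideal.map_comap_le
    · rw [Ideal.span_singleton_le_iff_mem]
      exact Ideal.mem_map_of_mem φ (show t ∈ (Ideal.span {φ t}).comap φ from
        Ideal.mem_span_singleton_self (φ t))
  refine FreeIdeal.isBlowUp_of_free (A := A) (B := B) _ hinj ?_ (φ t) ht hgen
  rw [hgen]
  intro x hx
  obtain ⟨b, rfl⟩ := Ideal.mem_span_singleton.1 (show x ∈ Ideal.span {φ t} from hx)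
  obtain ⟨a, ha⟩ := h b
  refine ⟨a, ?_, ha⟩
  change φ a ∈ Ideal.span {φ t}
  rw [ha]
  exact Ideal.mul_mem_right _ _ (Ideal.mem_span_singleton_self _)

variable {X Y : Scheme.{u}}

theorem isIso_app_of_le (f : X ⟶ Y) (W : Y.Opens) [IsIso (f ∣_ W)] (V : Y.Opens) (hV : V ≤ W) :
    IsIso (f.app V) := by
  obtain ⟨V', rfl⟩ : ∃ V' : W.toScheme.Opens, W.ι ''ᵁ V' = V :=
    ⟨W.ι ⁻¹ᵁ V, by rw [Scheme.Hom.image_preimage_eq_opensRange_inf, Scheme.Opens.opensRange_ι,
      inf_eq_right.2 hV]⟩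
  have h1 : IsIso ((f ∣_ W).app V') := inferInstance
  have e := image_morphismRestrict_preimage f W V'
  have h2 : IsIso (f.app (W.ι ''ᵁ V') ≫ X.presheaf.map (eqToHom e).op) := by
    have h3 := h1
    rw [morphismRestrict_app] at h3
    exact h3
  exact IsIso.of_isIso_comp_right _ (X.presheaf.map (eqToHom e).op)

variable (f : X ⟶ Y) (L : Y.IdealSheafData)

/-- Restriction of functions from `f⁻¹U` to `f⁻¹V`, for `V ≤ U`. -/
noncomputable abbrev res {U V : Y.Opens} (h : V ≤ U) : Γ(X, f ⁻¹ᵁ U) →+* Γ(X, f ⁻¹ᵁ V) :=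
  (X.presheaf.map (homOfLE (f.preimage_mono h)).op).hom

/-- The restriction of functions on `f⁻¹U` to the complement of a nowhere dense closed subset is injective. -/
theorem injective_res [IsReduced X] (hdense : Dense (f ⁻¹' ((L.support : Set Y)ᶜ))) {U V : Y.Opens}
    (hVU : V ≤ U) (hs : U ⊓ offSupport L ≤ V) : Function.Injective (res f hVU) := by
  rw [injective_iff_map_eq_zero]
  intro b hb
  apply eq_zero_of_basicOpen_eq_bot
  by_contra hne
  obtain ⟨y, hy⟩ := (Opens.ne_bot_iff_nonempty _).1 hne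
  obtain ⟨x, hxb, hx⟩ := hdense.inter_open_nonempty (X.basicOpen b : Set X) (X.basicOpen b).isOpen ⟨y, hy⟩
  have h1 : x ∈ f ⁻¹ᵁ V := hs ⟨X.basicOpen_le b hxb, hx⟩
  have h2 : X.basicOpen (res f hVU b) = f ⁻¹ᵁ V ⊓ X.basicOpen b := X.basicOpen_res _ _
  rw [hb, Scheme.basicOpen_zero] at h2
  have h3 : x ∈ (⊥ : X.Opens) := by rw [h2]; exact ⟨h1, hxb⟩
  exact h3

variable [IsReduced X] [IsFinite f] (hiso : IsIso (f ∣_ L.support.compl))
  (hdense : Dense (f ⁻¹' ((L.support : Set Y)ᶜ)))

include hiso hdense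

/-- The local statement. -/
theorem exists_local {U : Y.Opens} (hU : IsAffineOpen U) (s : Γ(Y, U)) (hs : s ∈ nonZeroDivisors Γ(Y, U))
    (hD : Y.basicOpen s = U ⊓ offSupport L) :
    Function.Injective (f.app U).hom ∧ (f.app U).hom s ∈ nonZeroDivisors Γ(X, f ⁻¹ᵁ U) ∧
      ∃ n : ℕ, ∀ b : Γ(X, f ⁻¹ᵁ U), ∃ a : Γ(Y, U), (f.app U).hom a = (f.app U).hom s ^ n * b := by
  have hVU : Y.basicOpen s ≤ U := Y.basicOpen_le s
  have hinjX : Function.Injective (res f hVU) := injective_res f L hdense hVU hD.ge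
  have hloc := hU.isLocalization_basicOpen s
  let ρ : Γ(Y, U) →+* Γ(Y, Y.basicOpen s) := algebraMap Γ(Y, U) Γ(Y, Y.basicOpen s)
  have hinjY : Function.Injective ρ :=
    IsLocalization.injective (M := Submonoid.powers s) _ (by rw [Submonoid.powers_le]; exact hs)
  have hcompl : Y.basicOpen s ≤ L.support.compl := by rw [hD]; exact inf_le_right
  have hisoV : IsIso (f.app (Y.basicOpen s)) := isIso_app_of_le f L.support.compl _ hcompl
  have hbij : Function.Bijective (f.app (Y.basicOpen s)).hom := ConcreteCategory.bijective_of_isIso _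
  have hnat : ∀ a : Γ(Y, U), res f hVU ((f.app U).hom a) = (f.app (Y.basicOpen s)).hom (ρ a) := by
    intro a
    exact (congr($(congrArg CommRingCat.Hom.hom (f.naturality (homOfLE hVU).op)) a)).symm
  have hsu : IsUnit (ρ s) := IsLocalization.Away.algebraMap_isUnit s
  have hsu' : IsUnit (res f hVU ((f.app U).hom s)) := by
    rw [hnat]; exact hsu.map _
  have hsr : (f.app U).hom s ∈ nonZeroDivisors Γ(X, f ⁻¹ᵁ U) := by
    rw [mem_nonZeroDivisors_iff_right]
    intro b hb
    apply hinjX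
    rw [map_zero]
    have h1 := congrArg (res f hVU) hb
    rw [map_mul, map_zero] at h1
    exact (hsu'.mul_left_eq_zero).1 h1
  refine ⟨?_, hsr, ?_⟩
  · intro a a' h
    apply hinjY
    apply hbij.1
    rw [← hnat, ← hnat, h]
  · -- every element of `B` is multiplied into `A` by a power of `s`
    have key : ∀ b : Γ(X, f ⁻¹ᵁ U), ∃ n : ℕ, ∃ a : Γ(Y, U), (f.app U).hom a = (f.app U).hom s ^ n * b := by
      intro b
      obtain ⟨c, hc⟩ := hbij.2 (res f hVU b)
      obtain ⟨⟨a, ⟨_, n, rfl⟩⟩, ha⟩ := IsLocalization.surj (Submonoid.powers s) c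
      refine ⟨n, a, hinjX ?_⟩
      have ha' : c * ρ (s ^ n) = ρ a := ha
      rw [hnat, map_mul, map_pow, hnat, ← ha', map_mul, hc, map_pow, map_pow]
      ring
    have hfin : (f.app U).hom.Finite := f.finite_app U hU
    let _ := (f.app U).hom.toAlgebra
    have hmf : Module.Finite Γ(Y, U) Γ(X, f ⁻¹ᵁ U) := hfin
    obtain ⟨r, g, hg⟩ := Module.Finite.exists_fin (R := Γ(Y, U)) (M := Γ(X, f ⁻¹ᵁ U))
    choose N A hA using fun i => key (g i)
    refine ⟨Finset.univ.sup N, fun b => ?_⟩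
    have hb : b ∈ Submodule.span Γ(Y, U) (Set.range g) := by rw [hg]; trivial
    induction hb using Submodule.span_induction with
    | mem x hx =>
      obtain ⟨i, rfl⟩ := hx
      obtain ⟨k, hk⟩ := Nat.exists_eq_add_of_le (Finset.le_sup (f := N) (Finset.mem_univ i))
      refine ⟨s ^ k * A i, ?_⟩
      rw [map_mul, hA, map_pow, hk]
      ring
    | zero => exact ⟨0, by simp⟩
    | add x y _ _ hx hy =>
      obtain ⟨a, ha⟩ := hx
      obtain ⟨a', ha'⟩ := hy
      exact ⟨a + a', by rw [map_add, ha, ha']; ring⟩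
    | smul c x _ hx =>
      obtain ⟨a, ha⟩ := hx
      refine ⟨c * a, ?_⟩
      rw [map_mul, ha, Algebra.smul_def]
      change (f.app U).hom c * _ = _ * ((f.app U).hom c * _)
      ring

omit hdense in
omit [IsReduced X] in
theorem surjective_of (hL : IsEffCartierIdeal L) : Function.Surjective f := by
  have h1 : (offSupport L : Set Y) ⊆ Set.range f := by
    intro y hy
    have hsur : Function.Surjective (f ∣_ (L.support.compl : Y.Opens)) :=
      (ConcreteCategory.bijective_of_isIso (f ∣_ (L.support.compl : Y.Opens)).base).2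
    obtain ⟨x, hx⟩ := hsur ⟨y, hy⟩
    refine ⟨Scheme.Opens.ι (f ⁻¹ᵁ (L.support.compl : Y.Opens)) x, ?_⟩
    have h2 : ((f ∣_ (L.support.compl : Y.Opens)) ≫ Scheme.Opens.ι (L.support.compl : Y.Opens)) x =
        (Scheme.Opens.ι (f ⁻¹ᵁ (L.support.compl : Y.Opens)) ≫ f) x := by
      rw [morphismRestrict_ι]
    have h3 : Scheme.Opens.ι (L.support.compl : Y.Opens) ((f ∣_ (L.support.compl : Y.Opens)) x) = y := by
      have h4 : (f ∣_ (L.support.compl : Y.Opens)) x = ⟨y, hy⟩ := hx
      rw [h4]; rfl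
    exact h2.symm.trans h3
  have h2 : IsClosed (Set.range f) := f.isClosedMap.isClosed_range
  have h3 : Set.range f = Set.univ := by
    rw [← h2.closure_eq]
    exact ((dense_offSupport hL).mono h1).closure_eq
  exact Set.range_eq_univ.1 h3

/-- Main theorem. -/
theorem exists_isBlowUp [CompactSpace Y] (hL : IsEffCartierIdeal L) :
    ∃ I : Y.IdealSheafData, I.support = L.support ∧ BlowUp.IsBlowUp f I := by
  have hloc : ∀ y : Y, ∃ (U : Y.Opens) (hU : IsAffineOpen U) (s : Γ(Y, U)), y ∈ U ∧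
      L.ideal ⟨U, hU⟩ = Ideal.span {s} ∧ Function.Injective (f.app U).hom ∧
      (f.app U).hom s ∈ nonZeroDivisors Γ(X, f ⁻¹ᵁ U) ∧
      ∃ n : ℕ, ∀ b : Γ(X, f ⁻¹ᵁ U), ∃ a : Γ(Y, U), (f.app U).hom a = (f.app U).hom s ^ n * b := by
    intro y
    obtain ⟨⟨U, hU⟩, hy, s, hs, hLs⟩ := hL y
    have hD : Y.basicOpen s = U ⊓ offSupport L := by
      ext z
      simp only [SetLike.mem_coe, Opens.mem_inf]
      constructor
      · intro hz
        have hzU := Y.basicOpen_le s hz
        refine ⟨hzU, ?_⟩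
        rw [mem_offSupport, Scheme.IdealSheafData.mem_support_iff_of_mem (U := ⟨U, hU⟩) hzU, hLs]
        simpa [Scheme.zeroLocus_span, Scheme.zeroLocus_singleton] using hz
      · rintro ⟨hzU, hz⟩
        rw [mem_offSupport, Scheme.IdealSheafData.mem_support_iff_of_mem (U := ⟨U, hU⟩) hzU, hLs] at hz
        simpa [Scheme.zeroLocus_span, Scheme.zeroLocus_singleton] using hz
    obtain ⟨h1, h2, h3⟩ := exists_local f L hiso hdense hU s hs hD
    exact ⟨U, hU, s, hy, hLs, h1, h2, h3⟩
  choose U hU s hy hLs hinj hreg N hN using hloc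
  obtain ⟨t, ht⟩ := CompactSpace.elim_nhds_subcover (X := Y) (fun y => (U y : Set Y))
    (fun y => (U y).isOpen.mem_nhds (hy y))
  let n : ℕ := t.sup N + 1
  refine ⟨((L ^ n).comap f).map f, ?_, ?_⟩
  · apply Closeds.ext
    rw [Scheme.IdealSheafData.support_map, Scheme.IdealSheafData.support_comap,
      Scheme.IdealSheafData.support_pow _ _ (Nat.succ_ne_zero _), Closeds.coe_closure]
    have h1 : f '' ((L.support.preimage f.continuous : Closeds X) : Set X) = (L.support : Set Y) :=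
      Set.image_preimage_eq _ (surjective_of f L hiso hL)
    rw [h1]
    exact L.support.isClosed.closure_eq
  · refine AffineBase.isBlowUp_of_app fun y => ?_
    have hyt : y ∈ ⋃ z ∈ t, (U z : Set Y) := by
      rw [show (⋃ z ∈ t, (U z : Set Y)) = ⊤ from ht]
      trivial
    simp only [Set.mem_iUnion] at hyt
    obtain ⟨z, hz, hyz⟩ := hyt
    refine ⟨U z, hU z, hyz, ?_⟩
    obtain ⟨k, hk⟩ := Nat.exists_eq_add_of_le ((Finset.le_sup (f := N) hz).trans (Nat.le_succ _))
    have hid : (((L ^ n).comap f).map f).ideal ⟨U z, hU z⟩ =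
        (Ideal.span {(f.app (U z)).hom (s z ^ n)}).comap (f.app (U z)).hom := by
      rw [Scheme.IdealSheafData.ideal_map_of_isAffineHom,
        ideal_comap (L ^ n) f ⟨U z, hU z⟩ ⟨f ⁻¹ᵁ (U z), (hU z).preimage f⟩ le_rfl]
      have h1 : (L ^ n).ideal ⟨U z, hU z⟩ = Ideal.span {s z ^ n} := by
        rw [Scheme.IdealSheafData.ideal_pow, Pi.pow_apply, hLs, Ideal.span_singleton_pow]
      rw [h1, Ideal.map_span, Set.image_singleton, ← Scheme.Hom.app_eq_appLE]
    rw [hid]
    refine isBlowUp_of_conductor (f.app (U z)).hom (hinj z) (s z ^ n) ?_ fun b => ?_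
    · rw [map_pow]; exact pow_mem (hreg z) n
    · obtain ⟨a, ha⟩ := hN z b
      refine ⟨s z ^ k * a, ?_⟩
      rw [map_mul, ha, map_pow, map_pow, show n = N z + k from hk]
      ring

end K483.FiniteBir
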