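import Groth.Agent.Ega4dB.AffBlowFlat

/-!
If `A` and all `A / I ^ n` are flat over `R`, then the affine blow-up algebra `A[I/a]` is flat over `R`.
-/

set_option autoImplicit false
universe u v w

namespace K483.FlatPow

open Groth.Agent.Ega4dB.AffBlowFlat

variable {A : Type u} [CommRing A] {I : Ideal A} {a : A} {B : Type v} [CommRing B] [Algebra A B]

theorem flat_pow {R : Type w} [CommRing R] [Algebra R A] (I : Ideal A) [Module.Flat R A]
    (hflat : ∀ n, Module.Flat R (A ⧸ I ^ (n + 1))) (n : ℕ) :
    Module.Flat R ↥(I ^ n • (⊤ : Submodule A A)) := by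
  have h0 : Module.Flat R (A ⧸ I ^ n) := by
    cases n with
    | zero =>
      have : Subsingleton (A ⧸ I ^ 0) := by
        rw [pow_zero, Ideal.one_eq_top]; infer_instance
      infer_instance
    | succ n => exact hflat n
  refine flat_of_exact (R := R) (N := A) (P := A ⧸ I ^ n)
    ((Submodule.subtype (I ^ n • (⊤ : Submodule A A))).restrictScalars R)
    (Ideal.Quotient.mkₐ R (I ^ n)).toLinearMap Subtype.val_injective Ideal.Quotient.mk_surjective ?_
  intro x
  constructor
  · intro hx
    have hx' : x ∈ I ^ n := Ideal.Quotient.eq_zero_iff_mem.1 hx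
    exact ⟨⟨x, by simpa using hx'⟩, rfl⟩
  · rintro ⟨y, rfl⟩
    exact Ideal.Quotient.eq_zero_iff_mem.2 (by simpa using y.2)

/-- Multiplication by `a ^ k` from `I ^ n` to `I ^ (n + k)`. -/
noncomputable def mulPow (I : Ideal A) (n k : ℕ) (a : A) (ha : a ∈ I) :
    ↥(I ^ n • (⊤ : Submodule A A)) →ₗ[A] ↥(I ^ (n + k) • (⊤ : Submodule A A)) :=
  (LinearMap.lsmul A A (a ^ k)).restrict (p := I ^ n • (⊤ : Submodule A A))
    (q := I ^ (n + k) • (⊤ : Submodule A A)) (fun y hy => by
      rw [pow_add, mul_comm, Submodule.mul_smul]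
      exact Submodule.smul_mem_smul (Ideal.pow_mem_pow ha k) hy)

theorem mulPow_val (I : Ideal A) (n k : ℕ) (a : A) (ha : a ∈ I) (y : ↥(I ^ n • (⊤ : Submodule A A))) :
    (mulPow I n k a ha y).1 = a ^ k * y.1 := rfl

/-- Flatness of the affine blow-up algebra. -/
theorem flat_of_flat_pow (h : AffBlow I a B) {R : Type w} [CommRing R] [Algebra R A] [Algebra R B]
    [IsScalarTower R A B] [Module.Flat R A] (hflat : ∀ n, Module.Flat R (A ⧸ I ^ (n + 1))) :
    Module.Flat R B := by
  have hfl := flat_pow (R := R) I hflat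
  refine flat_of_seq (R := R) (N := B) (fun n => ↥(I ^ n • (⊤ : Submodule A A)))
    (fun n => (h.divPow n).restrictScalars R) ?_ ?_
  · intro l x
    choose N Y hY hx using fun i => h.exists_eq (x i)
    refine ⟨Finset.univ.sup N, fun i => ⟨a ^ (Finset.univ.sup N - N i) * Y i, ?_⟩, fun i => ?_⟩
    · have h1 : N i ≤ Finset.univ.sup N := Finset.le_sup (f := N) (Finset.mem_univ i)
      obtain ⟨k, hk⟩ := Nat.exists_eq_add_of_le h1
      rw [hk, Nat.add_sub_cancel_left]
      have : a ^ k * Y i ∈ I ^ (N i + k) := by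
        rw [pow_add, mul_comm (a ^ k)]
        exact Ideal.mul_mem_mul (hY i) (Ideal.pow_mem_pow h.mem k)
      simpa using this
    · apply h.pow_cancel (Finset.univ.sup N)
      change algebraMap A B a ^ _ * h.divPow _ _ = _
      rw [h.divPow_spec]
      have h1 : N i ≤ Finset.univ.sup N := Finset.le_sup (f := N) (Finset.mem_univ i)
      obtain ⟨k, hk⟩ := Nat.exists_eq_add_of_le h1
      change algebraMap A B (a ^ (Finset.univ.sup N - N i) * Y i) = _
      rw [hk, Nat.add_sub_cancel_left, map_mul, map_pow, ← hx i]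
      ring
  · intro n x hx
    have hx' : h.divPow n x = 0 := hx
    have h1 : algebraMap A B x.1 = 0 := by
      rw [← h.divPow_spec, hx', mul_zero]
    obtain ⟨k, hk⟩ := h.eq_zero _ h1
    refine ⟨n + k, (mulPow I n k a h.mem).restrictScalars R, fun z => ?_, ?_⟩
    · apply h.pow_cancel (n + k)
      change algebraMap A B a ^ _ * h.divPow _ (mulPow I n k a h.mem z) = _ * h.divPow n z
      rw [h.divPow_spec, mulPow_val, map_mul, map_pow, pow_add, ← h.divPow_spec n z]
      ring
    · apply Subtype.ext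
      change a ^ k * x.1 = 0
      exact hk

/-- Ring homomorphism form. -/
theorem ringHom_flat_of_flat_pow {R : Type w} [CommRing R] (φ : R →+* A) (h : AffBlow I a B) (hA : φ.Flat)
    (hflat : ∀ n, ((Ideal.Quotient.mk (I ^ (n + 1))).comp φ).Flat) :
    ((algebraMap A B).comp φ).Flat := by
  let _ : Algebra R A := φ.toAlgebra
  let _ : Algebra R B := ((algebraMap A B).comp φ).toAlgebra
  have : IsScalarTower R A B := IsScalarTower.of_algebraMap_eq fun x => rfl
  have : Module.Flat R A := hA
  have h0 : ∀ n, Module.Flat R (A ⧸ I ^ (n + 1)) := fun n => hflat n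
  exact flat_of_flat_pow h h0

end K483.FlatPow
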