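import Groth.Agent.Divis.BlowChart2

/-!
If `a ∈ I` and every `x ∈ I` satisfies `x ^ 2 ∈ a I`, then `Spec A[I/a] ⟶ Spec A` is a blowing up of `Spec A`
in `I`.  In particular if `A ⊆ B` and `I B = f B` is contained in (the image of) `I`, then
`Spec B ⟶ Spec A` is a blowing up in `I`.
-/

set_option autoImplicit false
universe u

open CategoryTheory AlgebraicGeometry Limits BlowUp

namespace K483.FreeIdeal

open Groth.Agent.Divis Groth.Agent.Divis.BlowChart Groth.Agent.Divis.BlowUpFormal

section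

variable {A : Type u} [CommRing A] (I : Ideal A) (a : A)

/-- If `a ∈ I` and `x ^ 2 ∈ a I` for every `x ∈ I`, then `a` generates every invertible inverse image of `I`. -/
theorem mem_chartLocus (h : ∀ x ∈ I, ∃ z ∈ I, x * x = a * z) (ha : a ∈ I)
    {Y : Scheme.{u}} (g : Y ⟶ Spec (CommRingCat.of A)) (hE : IsEffCartierIdeal ((idl I).comap g))
    (y : Y) : y ∈ chartLocus I g a := by
  obtain ⟨x, hx, hyx⟩ := exists_mem_chartLocus I g hE y
  obtain ⟨W, hyW, hW⟩ := (mem_chartLocus_iff I g x y).1 hyx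
  refine (mem_chartLocus_iff I g a y).2 ⟨W, hyW, ?_⟩
  have hxr : resT Y W.1 (glob g x) ∈ nonZeroDivisors Γ(Y, W.1) :=
    BlowChart2.mem_nonZeroDivisors_of_ideal_eq_span hE W _ hW
  obtain ⟨z, hz, hxz⟩ := h x hx
  have hz' : resT Y W.1 (glob g z) ∈ ((idl I).comap g).ideal W := by
    rw [comap_idl_ideal]; exact Ideal.mem_map_of_mem _ hz
  rw [hW, Ideal.mem_span_singleton] at hz'
  obtain ⟨t, ht⟩ := hz'
  have h1 : resT Y W.1 (glob g x) = resT Y W.1 (glob g a) * t := by
    refine (mul_cancel_left_mem_nonZeroDivisors hxr).1 ?_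
    calc resT Y W.1 (glob g x) * resT Y W.1 (glob g x) = resT Y W.1 (glob g (x * x)) := by
          rw [map_mul, map_mul]
      _ = resT Y W.1 (glob g a) * resT Y W.1 (glob g z) := by rw [hxz, map_mul, map_mul]
      _ = _ := by rw [ht]; ring
  apply le_antisymm
  · rw [hW, h1, Ideal.span_singleton_le_iff_mem, Ideal.mem_span_singleton]
    exact ⟨t, rfl⟩
  · rw [Ideal.span_singleton_le_iff_mem, comap_idl_ideal]
    exact Ideal.mem_map_of_mem _ ha

/-- `Spec A[I/a] ⟶ Spec A` is a blowing up of `Spec A` in `I` as soon as `x ^ 2 ∈ a I` for all `x ∈ I`. -/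
theorem isBlowUp_chartMap (h : ∀ x ∈ I, ∃ z ∈ I, x * x = a * z) (ha : a ∈ I) :
    IsBlowUp (chartMap I a) (idl I) := by
  refine ⟨isEffCartier_chartMap I a ha, fun Y g hE => ?_⟩
  have hloc : ∀ y : Y, ∃ V : Y.affineOpens, y ∈ V.1 ∧
      ((idl I).comap g).ideal V = Ideal.span {resT Y V.1 (glob g a)} :=
    fun y => (mem_chartLocus_iff I g a y).1 (mem_chartLocus I a h ha g hE y)
  have hreg : RegSec Y (glob g a) := regSec_of_isEffCartier I g hE hloc
  obtain ⟨l, hl⟩ := exists_lift I a g hreg fun y => by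
    obtain ⟨V, hy, hV⟩ := hloc y
    exact ⟨V, hy, hV.le⟩
  exact ⟨l, hl, fun l' hl' => lift_unique I a hreg hl' hl⟩

end

section

variable {A B : Type u} [CommRing A] [CommRing B] [Algebra A B] (I : Ideal A)

/-- Under the hypotheses of `isBlowUp_of_free`, `B` is the affine blow-up algebra `A[I/a]`. -/
theorem exists_ringEquiv (hinj : Function.Injective (algebraMap A B))
    (hIB : (Ideal.map (algebraMap A B) I : Set B) ⊆ algebraMap A B '' (I : Set A)) {a : A} (ha : a ∈ I)
    (hf : algebraMap A B a ∈ nonZeroDivisors B)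
    (hgen : Ideal.map (algebraMap A B) I = Ideal.span {algebraMap A B a}) :
    ∃ e : ↥(affineAlgebra A I a) ≃+* B, ∀ x : A, e (algebraMap A _ x) = algebraMap A B x := by
  obtain ⟨θ, hθ⟩ := BlowAlg.exists_hom I a (algebraMap A B) hf fun x hx => by
    have h1 : algebraMap A B x ∈ Ideal.map (algebraMap A B) I := Ideal.mem_map_of_mem _ hx
    rw [hgen] at h1
    exact Ideal.mem_span_singleton.1 h1
  have hθ' : ∀ x : A, θ (algebraMap A _ x) = algebraMap A B x := fun x => congr($hθ x)
  refine ⟨RingEquiv.ofBijective θ ⟨?_, ?_⟩, hθ'⟩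
  · rw [injective_iff_map_eq_zero]
    intro q hq
    obtain ⟨n, c, hc⟩ := BlowAlg.exists_pow_mul_eq I a q
    have h1 : algebraMap A B c = 0 := by rw [← hθ', ← hc, map_mul, hq, mul_zero]
    have h2 : c = 0 := hinj (by rw [h1, map_zero])
    rw [h2, map_zero] at hc
    exact (mul_left_mem_nonZeroDivisors_eq_zero_iff
      (pow_mem (BlowAlg.algebraMap_mem_nonZeroDivisors I a) n)).1 hc
  · intro b
    have h1 : algebraMap A B a * b ∈ (Ideal.map (algebraMap A B) I : Set B) := by
      rw [hgen]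
      exact Ideal.mul_mem_right _ _ (Ideal.mem_span_singleton_self _)
    obtain ⟨x, hx, hxb⟩ := hIB h1
    obtain ⟨q, hq⟩ := Groth.Agent.Divis.BlowAlg2.exists_eq_pow_mul I a ha 1 (m := x) (by simpa using hx)
    refine ⟨q, (mul_cancel_left_mem_nonZeroDivisors hf).1 ?_⟩
    rw [← hxb, ← hθ' x, hq, pow_one, map_mul, hθ']

/-- If `A → B` is injective, `I B` is contained in the image of `I` and is generated by a nonzerodivisor of
`B`, then `Spec B ⟶ Spec A` is a blowing up of `Spec A` in `I`. -/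
theorem isBlowUp_of_free (hinj : Function.Injective (algebraMap A B))
    (hIB : (Ideal.map (algebraMap A B) I : Set B) ⊆ algebraMap A B '' (I : Set A))
    (f : B) (hf : f ∈ nonZeroDivisors B) (hgen : Ideal.map (algebraMap A B) I = Ideal.span {f}) :
    IsBlowUp (Spec.map (CommRingCat.ofHom (algebraMap A B))) (idl I) := by
  obtain ⟨a, ha, rfl⟩ : f ∈ algebraMap A B '' (I : Set A) :=
    hIB (by rw [hgen]; exact Ideal.mem_span_singleton_self f)
  obtain ⟨e, he⟩ := exists_ringEquiv I hinj hIB ha hf hgen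
  have key : IsBlowUp (chartMap I a) (idl I) := by
    refine isBlowUp_chartMap I a (fun x hx => ?_) ha
    -- `x = a * s` in `B`, so `x * x = a * (x * s)` and `x * s` comes from `I`
    have h1 : algebraMap A B x ∈ Ideal.map (algebraMap A B) I := Ideal.mem_map_of_mem _ hx
    rw [hgen, Ideal.mem_span_singleton] at h1
    obtain ⟨s, hs⟩ := h1
    obtain ⟨z, hz, hzs⟩ := hIB (show algebraMap A B x * s ∈ (Ideal.map (algebraMap A B) I : Set B) from
      Ideal.mul_mem_right _ _ (Ideal.mem_map_of_mem _ hx))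
    refine ⟨z, hz, hinj ?_⟩
    rw [map_mul, map_mul, hzs]
    nth_rw 1 [hs]
    ring
  let ε : CommRingCat.of ↥(affineAlgebra A I a) ≅ CommRingCat.of B := e.toCommRingCatIso
  refine isBlowUp_of_iso key (Scheme.Spec.mapIso ε.symm.op).symm ?_
  change Spec.map ε.hom ≫ Spec.map (CommRingCat.ofHom (algebraMap A ↥(affineAlgebra A I a))) = _
  rw [← Spec.map_comp]
  congr 1
  ext x
  exact he x

end

end K483.FreeIdeal
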