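import Groth.Agent.Ega4B.BiratReg

/-!
Orders in a regular local ring of dimension two: `ord (f g) = ord f + ord g`.
-/

set_option autoImplicit false
universe u

open IsLocalRing MvPolynomial

namespace K483.OrdMul

open Groth.Agent.Ega4B.BiratReg

variable {A : Type u} [CommRing A] [IsRegularLocalRing A]

theorem mul_notMem (hA : ringKrullDim A = 2) {f g : A} {μ ν : ℕ} (hf : f ∈ maximalIdeal A ^ μ)
    (hf' : f ∉ maximalIdeal A ^ (μ + 1)) (hg : g ∈ maximalIdeal A ^ ν)
    (hg' : g ∉ maximalIdeal A ^ (ν + 1)) : f * g ∉ maximalIdeal A ^ (μ + ν + 1) := by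
  obtain ⟨hdom, hufd⟩ := Groth.Agent.S2821.result A
  obtain ⟨x, y, hm, hx0, -, hrel⟩ := exists_params hA
  have hqr : CAlgX.IsQuasiRegular ![x, y] := isQuasiRegular_pair hx0 hrel
  obtain ⟨P, hP, rfl, d, hd⟩ := exists_form hm hf hf'
  obtain ⟨Q, hQ, rfl, e, he⟩ := exists_form hm hg hg'
  intro h
  rw [← map_mul, hm, ← span_range_pair] at h
  have h1 := hqr (μ + ν) (P * Q) (hP.mul hQ) h
  rw [span_range_pair, ← hm] at h1
  have h2 : (P * Q).map (residue A) = 0 := by
    ext c
    rw [coeff_map, coeff_zero, residue_eq_zero_iff]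
    exact h1 c
  rw [map_mul, mul_eq_zero] at h2
  rcases h2 with h2 | h2
  · apply hd
    rw [← residue_eq_zero_iff, ← coeff_map, h2, coeff_zero]
  · apply he
    rw [← residue_eq_zero_iff, ← coeff_map, h2, coeff_zero]

theorem pow_notMem (hA : ringKrullDim A = 2) {f : A} {μ : ℕ} (hf : f ∈ maximalIdeal A ^ μ)
    (hf' : f ∉ maximalIdeal A ^ (μ + 1)) (N : ℕ) : f ^ N ∉ maximalIdeal A ^ (N * μ + 1) := by
  induction N with
  | zero =>
    simp only [pow_zero, Nat.zero_mul, Nat.zero_add, pow_one]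
    exact fun h => Ideal.IsPrime.one_notMem inferInstance h
  | succ N ih =>
    have h1 : f ^ N ∈ maximalIdeal A ^ (N * μ) := by
      rw [mul_comm, pow_mul]
      exact Ideal.pow_mem_pow hf N
    have := mul_notMem hA h1 ih hf hf'
    rwa [← pow_succ, ← Nat.succ_mul] at this

end K483.OrdMul
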