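import Groth.Agent.CurvesC.BlowUpInter
import Groth.Agent.VarietyB.ProjStd
import Groth.Agent.Ega2.PnMap
import Groth.Agent.Ega2.H295.PnUniq
import Groth.Agent.Ega2.BlowBasic
import Groth.Agent.Flat2C.BlowExist
import Groth.Agent.Flat2C.BlowProper
import Groth.Agent.Divis.BlowUpFormal
import Groth.Agent.CohqA.ChevGen
import Groth.Agent.S2348
import Groth.Agent.BlowUp.K483.Basics
import Mathlib.AlgebraicGeometry.Morphisms.SchemeTheoreticallyDominant
import Groth.Agent.Dix.ProjProper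
import Groth.Agent.Picfga.RegLocus

/-!
# Closed subschemes of projective space over a domain which are blow-ups

`isBlowUp_of_coord`: an integral closed subscheme `Z` of `P^N_A`, dominating `Spec A`, whose generic point has the
homogeneous coordinates `a_0, …, a_N ∈ A`, is the blow-up of `Spec A` in the ideal `(a_0, …, a_N)`.
-/

set_option autoImplicit false
universe u
open CategoryTheory CategoryTheory.Limits AlgebraicGeometry TopologicalSpace Opposite
open Groth.Agent.CohqA.ChevGen (germ_res)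
open Groth.Agent.CurvesC.BlowUpCharts Groth.Agent.CurvesC.BlowUpInter
open Groth.Agent.VarietyB Groth.Agent.VarietyB.ProjGlue

namespace K483.ProjBir

section coord

variable {A : Type u} [CommRing A] {X : Scheme.{u}} {b : X ⟶ Spec (CommRingCat.of A)} {J : Type} {a : J → A}

/-- The ideal generated by a family. -/
abbrev sp (a : J → A) : Ideal A := Ideal.span (Set.range a)

theorem mem_sp (a : J → A) (j : J) : a j ∈ sp a := Ideal.subset_span ⟨j, rfl⟩

/-- Coordinate data on a scheme over `Spec A` on which the ideal `(a_j)` becomes effective Cartier. -/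
noncomputable def blowData (hb : BlowUp.IsEffCartierIdeal ((Curv2.idealSheaf A (sp a)).comap b)) : CoordData X J where
  U j := chart b (sp a) (a j)
  iSup_U := by
    rw [eq_top_iff]
    intro x _
    obtain ⟨_, ⟨j, rfl⟩, hx⟩ := exists_mem_chart hb (S := Set.range a) rfl x
    exact Opens.mem_iSup.2 ⟨j, hx⟩
  f j k := ratio b (sp a) (a j) (mem_sp a k)
  f_self j := by
    apply (mul_cancel_left_mem_nonZeroDivisors (phi_mem_nonZeroDivisors (b := b) (le_refl (chart b (sp a) (a j))))).1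
    rw [← phi_mul_ratio, mul_one]
  f_mul i j k := by
    apply (mul_cancel_left_mem_nonZeroDivisors (phi_mem_nonZeroDivisors (b := b)
      (inf_le_left : chart b (sp a) (a i) ⊓ chart b (sp a) (a j) ≤ _))).1
    have h1 := phi_mul_map_ratio (b := b) (a i) (mem_sp a k)
      (inf_le_left : chart b (sp a) (a i) ⊓ chart b (sp a) (a j) ≤ _)
    have h2 := phi_mul_map_ratio (b := b) (a i) (mem_sp a j)
      (inf_le_left : chart b (sp a) (a i) ⊓ chart b (sp a) (a j) ≤ _)
    have h3 := phi_mul_map_ratio (b := b) (a j) (mem_sp a k)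
      (inf_le_right : chart b (sp a) (a i) ⊓ chart b (sp a) (a j) ≤ _)
    rw [← mul_assoc]
    exact h1.symm.trans (h3.trans (congrArg (· * _) h2))

end coord

section eff

variable {A : Type u} [CommRing A] {Z : Scheme.{u}} [IsIntegral Z] {f : Z ⟶ Spec (CommRingCat.of A)}
  {J : Type} {a : J → A} (E : CoordData Z J) {j₀ : J}

/-- The germ of a structural function at the generic point. -/
noncomputable def gphi (f : Z ⟶ Spec (CommRingCat.of A)) : A →+* Z.functionField :=
  have : Nonempty (⊤ : Z.Opens) := ⟨⟨genericPoint Z, trivial⟩⟩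
  (Z.germToFunctionField ⊤).hom.comp (phi f ⊤)

theorem germ_phi (V : Z.Opens) [Nonempty V] (x : A) : Z.germToFunctionField V (phi f V x) = gphi f x := by
  have : Nonempty (⊤ : Z.Opens) := ⟨⟨genericPoint Z, trivial⟩⟩
  rw [← map_phi f (le_top : V ≤ ⊤) x]
  exact germ_res le_top _

variable [hne : Nonempty (E.U j₀)]
  (h : ∀ k, gphi f (a k) = gphi f (a j₀) * Z.germToFunctionField (E.U j₀) (E.f j₀ k))

omit [IsIntegral Z] hne in
theorem nonempty_inf [IsIntegral Z] {V W : Z.Opens} (hV : Nonempty V) (hW : Nonempty W) :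
    Nonempty (V ⊓ W : Z.Opens) :=
  ⟨⟨genericPoint Z, Groth.Agent.Picfga.RegLocus.genericPoint_mem V,
    Groth.Agent.Picfga.RegLocus.genericPoint_mem W⟩⟩

include h in
theorem gphi_eq (j k : J) [hj : Nonempty (E.U j)] :
    gphi f (a k) = gphi f (a j) * Z.germToFunctionField (E.U j) (E.f j k) := by
  have := nonempty_inf hne hj
  have h1 := congrArg (Z.germToFunctionField (E.U j₀ ⊓ E.U j)) (E.f_mul j₀ j k)
  rw [map_mul, germ_res, germ_res, germ_res] at h1
  rw [h k, h1, ← mul_assoc, ← h j]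

include h in
theorem isEff (h0 : gphi f (a j₀) ≠ 0) : BlowUp.IsEffCartierIdeal ((Curv2.idealSheaf A (sp a)).comap f) := by
  apply isEff_of_cover
  intro z
  have hz : z ∈ ⨆ j, E.U j := by rw [E.iSup_U]; trivial
  obtain ⟨j, hj⟩ := Opens.mem_iSup.1 hz
  obtain ⟨W, hW, hzW, hWj⟩ := exists_isAffineOpen_mem_and_subset (U := E.U j) hj
  have hne' : Nonempty (E.U j) := ⟨⟨z, hj⟩⟩
  have : Nonempty W := ⟨⟨z, hzW⟩⟩
  refine ⟨W, hzW, a j, mem_sp a j, hW, ?_, ?_⟩
  · apply mem_nonZeroDivisors_of_ne_zero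
    intro h1
    apply h0
    rw [gphi_eq E h j j₀]
    have h2 := germ_phi (f := f) W (a j)
    rw [h1, map_zero] at h2
    rw [← h2, zero_mul]
  · intro z hz
    have h1 : sp a ≤ (Ideal.span {phi f W (a j)}).comap (phi f W) := by
      rw [Ideal.span_le]
      rintro _ ⟨k, rfl⟩
      change phi f W (a k) ∈ Ideal.span {phi f W (a j)}
      rw [Ideal.mem_span_singleton]
      refine ⟨Z.presheaf.map (homOfLE hWj).op (E.f j k), ?_⟩
      apply Z.germToFunctionField_injective W
      rw [map_mul, germ_phi, germ_phi, gphi_eq E h j k]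
      exact congrArg (_ * ·) (germ_res hWj _).symm
    exact Ideal.mem_span_singleton.1 (h1 hz)

end eff

section main

variable {Z : Scheme.{u}} [IsIntegral Z]

/-- Two morphisms from an integral scheme which agree on a nonempty open and over a separated base are equal. -/
theorem ext_of_open {P S : Scheme.{u}} {g g' : Z ⟶ P} (p : P ⟶ S) [IsSeparated p] (hp : g ≫ p = g' ≫ p)
    (V : Z.Opens) [hV : Nonempty V] (h : V.ι ≫ g = V.ι ≫ g') : g = g' := by
  have : IsDominant V.ι := AlgebraicGeometry.Opens.isDominant_ι (V.isOpen.dense ⟨_, hV.some.2⟩)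
  exact ext_of_isDominant_of_isSeparated p hp V.ι h

theorem map_genericPoint {Y : Scheme.{u}} [IsIntegral Y] (f : Z ⟶ Y) [IsDominant f] :
    f (genericPoint Z) = genericPoint Y := by
  have h := (genericPoint_spec Z).image f.continuous
  have h2 : closure (f '' Set.univ) = Set.univ := by
    rw [Set.image_univ, f.denseRange.closure_range]
  rw [h2] at h
  exact h.eq (genericPoint_spec Y)

theorem gphi_injective {A : Type u} [CommRing A] [IsDomain A] (f : Z ⟶ Spec (CommRingCat.of A)) [IsDominant f]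
    [QuasiCompact f] : Function.Injective (gphi f) := by
  have hne : Nonempty (⊤ : Z.Opens) := ⟨⟨genericPoint Z, trivial⟩⟩
  have h1 : IsSchemeTheoreticallyDominant f := IsSchemeTheoreticallyDominant.of_isDominant f
  have h2 : Function.Injective (phi f ⊤) := by
    have h3 : Function.Injective (psi f) := by
      intro x y hxy
      have h4 : f.appTop.hom ((Scheme.ΓSpecIso (CommRingCat.of A)).inv.hom x) =
        f.appTop.hom ((Scheme.ΓSpecIso (CommRingCat.of A)).inv.hom y) := hxy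
      have h5 := f.app_injective ⊤ h4
      have h6 := congrArg (Scheme.ΓSpecIso (CommRingCat.of A)).hom.hom h5
      rw [← CommRingCat.comp_apply, ← CommRingCat.comp_apply, Iso.inv_hom_id] at h6
      exact h6
    intro x y hxy
    rw [phi_top, phi_top] at hxy
    exact h3 hxy
  exact (Z.germToFunctionField_injective ⊤).comp h2

open CohB1 Groth.Agent.Dix.ProjProper in
omit [IsIntegral Z] in
theorem hom_ext_over {N : ℕ} {S : Scheme.{u}} {g g' : Z ⟶ ProjSpaceOver N S} (h₁ : g ≫ toZ N S = g' ≫ toZ N S)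
    (h₂ : g ≫ ProjSpaceOver.toBase N S = g' ≫ ProjSpaceOver.toBase N S) : g = g' :=
  pullback.hom_ext h₁ h₂

omit [IsIntegral Z] in
theorem appLE_phi {A : Type u} [CommRing A] {Y : Scheme.{u}} (b : Y ⟶ Spec (CommRingCat.of A)) (u : Z ⟶ Y)
    {U : Y.Opens} {V : Z.Opens} (e : V ≤ u ⁻¹ᵁ U) (x : A) :
    u.appLE U V e (phi b U x) = phi (u ≫ b) V x := by
  rw [Scheme.Hom.appLE, CommRingCat.comp_apply]
  have h1 := phi_comp (b := b) u U x
  refine (congrArg (Z.presheaf.map (homOfLE e).op) h1.symm).trans ?_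
  exact map_phi (u ≫ b) e x

theorem gphi_of_mul {A : Type u} [CommRing A] {Y : Scheme.{u}} {b : Y ⟶ Spec (CommRingCat.of A)} (u : Z ⟶ Y)
    {U : Y.Opens} {V : Z.Opens} [Nonempty V] (e : V ≤ u ⁻¹ᵁ U) {x y : A} {r : Γ(Y, U)}
    (h : phi b U y = phi b U x * r) :
    gphi (u ≫ b) y = gphi (u ≫ b) x * Z.germToFunctionField V (u.appLE U V e r) := by
  rw [← germ_phi V y, ← germ_phi V x, ← appLE_phi b u e, ← appLE_phi b u e, h, map_mul, map_mul]

theorem gphi_comp_eq_zero {A : Type u} [CommRing A] {Y : Scheme.{u}} [IsIntegral Y]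
    (b : Y ⟶ Spec (CommRingCat.of A)) (u : Z ⟶ Y) {x : A} (hx : gphi b x = 0) : gphi (u ≫ b) x = 0 := by
  have hne : Nonempty (⊤ : Z.Opens) := ⟨⟨genericPoint Z, trivial⟩⟩
  have hne' : Nonempty (⊤ : Y.Opens) := ⟨⟨genericPoint Y, trivial⟩⟩
  rw [← germ_phi (f := b) ⊤ x] at hx
  have h1 : phi b ⊤ x = 0 := Y.germToFunctionField_injective ⊤ (by rw [hx, map_zero])
  rw [← germ_phi (f := u ≫ b) ⊤ x, ← appLE_phi b u (U := ⊤) (V := ⊤) le_top x, h1, map_zero, map_zero]

/-- The chart of a nonzero element contains the generic point. -/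
theorem genericPoint_mem_chart {A : Type u} [CommRing A] {b : Z ⟶ Spec (CommRingCat.of A)} {I : Ideal A}
    (hb : BlowUp.IsEffCartierIdeal ((Curv2.idealSheaf A I).comap b)) {x : A} (hx : x ∈ I) (hx0 : gphi b x ≠ 0) :
    genericPoint Z ∈ chart b I x := by
  obtain ⟨U, hxU, f, hf, hI⟩ := hb (genericPoint Z)
  have : Nonempty U.1 := ⟨⟨_, hxU⟩⟩
  rw [comap_idealSheaf_ideal] at hI
  obtain ⟨c, hc⟩ : f ∣ phi b U.1 x :=
    Ideal.mem_span_singleton.1 (hI ▸ Ideal.mem_map_of_mem _ hx)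
  refine (isGood_basicOpen U.2 f c hf hI hc).le_chart ?_
  have hc0 : c ≠ 0 := by
    rintro rfl
    rw [mul_zero] at hc
    apply hx0
    rw [← germ_phi U.1 x, hc, map_zero]
  have h1 : Nonempty (Z.basicOpen c) := by
    by_contra h2
    rw [not_nonempty_iff] at h2
    apply hc0
    apply (basicOpen_eq_bot_iff c).1
    ext y
    exact ⟨fun hy => (h2.false ⟨y, hy⟩).elim, fun hy => hy.elim⟩
  exact Groth.Agent.Picfga.RegLocus.genericPoint_mem (Z.basicOpen c)

open CohB1 Groth.Agent.Dix.ProjProper in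
/-- An integral closed subscheme `Z` of `P^N_A`, dominating `Spec A`, whose generic point has the homogeneous
coordinates `a_0, …, a_N ∈ A`, is the blow-up of `Spec A` in the ideal `(a_0, …, a_N)`. -/
theorem isBlowUp_of_coord {A : Type u} [CommRing A] [IsDomain A] (f : Z ⟶ Spec (CommRingCat.of A)) [IsDominant f]
    (N : ℕ) (i : Z ⟶ ProjSpaceOver N (Spec (CommRingCat.of A))) [IsClosedImmersion i]
    (hi : i ≫ ProjSpaceOver.toBase N _ = f) (a : Fin (N + 1) → A) (j₀ : Fin (N + 1)) (h0 : a j₀ ≠ 0)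
    (E : CoordData Z (Fin (N + 1)))
    (hE : E = ProjStd.pullbackData (i ≫ toZ N _) (ProjStd.stdData (Fin (N + 1)) (ULift.{u} ℤ)))
    [hne : Nonempty (E.U j₀)]
    (h : ∀ k, gphi f (a k) = gphi f (a j₀) * Z.germToFunctionField (E.U j₀) (E.f j₀ k)) :
    BlowUp.IsBlowUp f (Curv2.idealSheaf A (sp a)) := by
  have hqc : QuasiCompact f := by rw [← hi]; infer_instance
  have hg0 : gphi f (a j₀) ≠ 0 := fun h1 => h0 (gphi_injective f (by rw [h1, map_zero]))
  have heff := isEff E h hg0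
  obtain ⟨Y, b, hb⟩ := Groth.Agent.Flat2C.BlowExist.exists_isBlowUp (Curv2.idealSheaf A (sp a))
  have hbs : IsSeparated b := Groth.Agent.Flat2C.BlowProper.isSeparated_of_isBlowUp hb
  have hI : genericPoint (Spec (CommRingCat.of A)) ∉ (Curv2.idealSheaf A (sp a)).support := by
    intro hbot
    have h1 : (⟨⊥, Ideal.isPrime_bot⟩ : Spec (CommRingCat.of A)) ∈ (Curv2.idealSheaf A (sp a)).support :=
      (genericPoint_specializes _).mem_closed (Curv2.idealSheaf A (sp a)).support.isClosed hbot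
    have h2 := (Basics.mem_support_idl (sp a) _).1 h1
    exact h0 ((Ideal.mem_bot).1 (h2 (mem_sp a j₀)))
  have hI' : Curv2.idealSheaf A (sp a) ≠ ⊥ := by
    intro h1
    apply hI
    rw [h1, Scheme.IdealSheafData.support_bot]
    trivial
  obtain ⟨hYint, hYgen, -⟩ := Groth.Agent.S2348.result _ hI' b hb
  obtain ⟨u, hu, -⟩ := hb.2 Z f heff
  have hugen : u (genericPoint Z) = genericPoint Y := by
    have hopen := Groth.Agent.Ega2.BlowBasic.isOpenImmersion_offSupport hb
    have hη : f (genericPoint Z) = genericPoint _ := map_genericPoint f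
    have hoff : ∀ y : Y, b y = genericPoint _ →
        y ∈ Groth.Agent.Ega2.BlowBasic.offSupport ((Curv2.idealSheaf A (sp a)).comap b) := by
      intro y hy hy'
      apply hI
      rw [Scheme.IdealSheafData.support_comap] at hy'
      rw [← hy]
      exact hy'
    have h1 : b (u (genericPoint Z)) = genericPoint _ := by
      rw [← Scheme.Hom.comp_apply, hu, hη]
    have h2 : b (genericPoint Y) = genericPoint _ := hYgen
    have h3 := hopen.base_open.injective (a₁ := ⟨_, hoff _ h1⟩) (a₂ := ⟨_, hoff _ h2⟩) (h1.trans h2.symm)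
    exact congrArg Subtype.val h3
  have hdom : IsDominant u := by
    refine ⟨?_⟩
    rw [DenseRange, dense_iff_closure_eq, ← Set.univ_subset_iff]
    have h1 : closure {genericPoint Y} = Set.univ := genericPoint_spec Y
    rw [← h1]
    exact closure_mono (Set.singleton_subset_iff.2 ⟨_, hugen⟩)
  -- the morphism of the blow-up to projective space
  let D : CoordData Y (Fin (N + 1)) := blowData hb.1
  let p' : Y ⟶ Spec (CommRingCat.of (ULift.{u} ℤ)) := specULiftZIsTerminal.from _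
  let ψ₁ : Y ⟶ ProjSpace N (ULift.{u} ℤ) := D.toProjSpace p'
  let ψ : Y ⟶ ProjSpaceOver N (Spec (CommRingCat.of A)) := pullback.lift ψ₁ b (specULiftZIsTerminal.hom_ext _ _)
  have hψ₁ : ψ ≫ toZ N _ = ψ₁ := pullback.lift_fst _ _ _
  have hψ₂ : ψ ≫ ProjSpaceOver.toBase N _ = b := pullback.lift_snd _ _ _
  have hU : D.U j₀ ≤ ψ₁ ⁻¹ᵁ Groth.Agent.Ega2.H295.PnUniq.Dp (Fin (N + 1)) (ULift.{u} ℤ) j₀ := by
    have h1 := D.preimage_inf p' j₀ j₀
    rw [D.f_self, Scheme.basicOpen_one] at h1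
    exact inf_eq_left.1 h1
  have hgenU : genericPoint Y ∈ D.U j₀ := by
    refine genericPoint_mem_chart hb.1 (mem_sp a j₀) ?_
    intro h1
    apply hg0
    rw [← hu]
    exact gphi_comp_eq_zero b u h1
  have key : u ≫ ψ₁ = i ≫ toZ N _ := by
    have hneV : Nonempty (E.U j₀ ⊓ u ⁻¹ᵁ D.U j₀ : Z.Opens) :=
      nonempty_inf hne ⟨⟨genericPoint Z, by rw [Scheme.Hom.mem_preimage, hugen]; exact hgenU⟩⟩
    have hp : (u ≫ ψ₁) ≫ ProjSpace.toSpec N (ULift.{u} ℤ) = (i ≫ toZ N _) ≫ ProjSpace.toSpec N (ULift.{u} ℤ) :=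
      specULiftZIsTerminal.hom_ext _ _
    apply ext_of_open (ProjSpace.toSpec N (ULift.{u} ℤ)) hp (E.U j₀ ⊓ u ⁻¹ᵁ D.U j₀)
    have e1 : E.U j₀ ⊓ u ⁻¹ᵁ D.U j₀ ≤ (u ≫ ψ₁) ⁻¹ᵁ Groth.Agent.Ega2.H295.PnUniq.Dp (Fin (N + 1)) (ULift.{u} ℤ) j₀ :=
      inf_le_right.trans (Scheme.Hom.preimage_mono u hU)
    have e2 : E.U j₀ ⊓ u ⁻¹ᵁ D.U j₀ ≤
        (i ≫ toZ N _) ⁻¹ᵁ Groth.Agent.Ega2.H295.PnUniq.Dp (Fin (N + 1)) (ULift.{u} ℤ) j₀ := by
      subst hE; exact inf_le_left
    refine Groth.Agent.Ega2.H295.PnUniq.ι_comp_eq_of_ratio (u ≫ ψ₁) (i ≫ toZ N _) hp j₀ e1 e2 ?_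
    intro k
    apply Z.germToFunctionField_injective (E.U j₀ ⊓ u ⁻¹ᵁ D.U j₀)
    apply mul_left_cancel₀ hg0
    have h1 : (u ≫ ψ₁).appLE _ _ e1 (ProjStd.ratio (Fin (N + 1)) (ULift.{u} ℤ) j₀ k) =
        u.appLE (D.U j₀) (E.U j₀ ⊓ u ⁻¹ᵁ D.U j₀) inf_le_right (D.f j₀ k) := by
      rw [← Groth.Agent.Ega2.PnMap.appLE_ratio D p' j₀ k hU]
      have h2 := Scheme.Hom.appLE_comp_appLE u ψ₁ (Groth.Agent.Ega2.H295.PnUniq.Dp (Fin (N + 1)) (ULift.{u} ℤ) j₀)
        (D.U j₀) (E.U j₀ ⊓ u ⁻¹ᵁ D.U j₀) hU inf_le_right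
      exact (congr($(h2) (ProjStd.ratio (Fin (N + 1)) (ULift.{u} ℤ) j₀ k))).symm
    have h2 : (i ≫ toZ N _).appLE _ _ e2 (ProjStd.ratio (Fin (N + 1)) (ULift.{u} ℤ) j₀ k) =
        Z.presheaf.map (homOfLE (inf_le_left : E.U j₀ ⊓ u ⁻¹ᵁ D.U j₀ ≤ _)).op (E.f j₀ k) := by
      subst hE
      rfl
    refine Eq.trans (congrArg (fun c => gphi f (a j₀) *
      Z.germToFunctionField (E.U j₀ ⊓ u ⁻¹ᵁ D.U j₀) c) h1) (Eq.trans ?_ (congrArg (fun c => gphi f (a j₀) *
      Z.germToFunctionField (E.U j₀ ⊓ u ⁻¹ᵁ D.U j₀) c) h2.symm))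
    dsimp only
    have h3 := gphi_of_mul (b := b) u (inf_le_right : E.U j₀ ⊓ u ⁻¹ᵁ D.U j₀ ≤ u ⁻¹ᵁ D.U j₀)
      (phi_mul_ratio (b := b) (a j₀) (mem_sp a k))
    rw [hu] at h3
    refine h3.symm.trans ?_
    rw [h k]
    exact congrArg (_ * ·) (germ_res inf_le_left _).symm
  have hui : u ≫ ψ = i := by
    apply hom_ext_over
    · rw [Category.assoc]
      exact (congrArg (u ≫ ·) hψ₁).trans key
    · rw [Category.assoc]
      exact ((congrArg (u ≫ ·) hψ₂).trans hu).trans hi.symm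
  have hψs : IsSeparated ψ := by
    have : IsSeparated (ψ ≫ ProjSpaceOver.toBase N (Spec (CommRingCat.of A))) := by rw [hψ₂]; infer_instance
    exact IsSeparated.of_comp ψ (ProjSpaceOver.toBase N (Spec (CommRingCat.of A)))
  have huc : IsClosedImmersion u := by
    have : IsClosedImmersion (u ≫ ψ) := by rw [hui]; infer_instance
    exact IsClosedImmersion.of_comp u ψ
  have hus : Surjective u := by
    have := surjective_of_isDominant_of_isClosed_range u u.isClosedEmbedding.isClosed_range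
    exact this
  have hiso : IsIso u := isIso_of_isClosedImmersion_of_surjective u
  exact Groth.Agent.Divis.BlowUpFormal.isBlowUp_of_iso hb (asIso u) hu

end main

end K483.ProjBir
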