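import Groth.Agent.Picfga.RegLocus
import Groth.Agent.CohqA.ChevGen
import Groth.Agent.Ega1.AnnIdealNoeth

/-!
# The ideal sheaf `𝒟 · t ∩ O_X` for a rational function `t`

`scale 𝒟 t` is the quasi-coherent ideal sheaf on an integral scheme `X` with sections `{a | a ∈ 𝒟 · t}` over affine
opens.  `scale ⊤ t⁻¹` is the ideal of denominators of `t ≠ 0`.
-/

set_option autoImplicit false
universe u
open CategoryTheory CategoryTheory.Limits AlgebraicGeometry TopologicalSpace Opposite
open Groth.Agent.CohqA.ChevGen (germ_res)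
open Groth.Agent.Picfga.RegLocus (reg sec germToFunctionField_sec)

namespace K483.Scale

variable {X : Scheme.{u}} [IsIntegral X]

/-- The ideal of sections of the form `d * t`. -/
def scaleIdeal {V : X.Opens} (𝔡 : Ideal Γ(X, V)) (t : X.functionField) : Ideal Γ(X, V) where
  carrier := {a | ∀ _ : Nonempty V, ∃ d ∈ 𝔡, X.germToFunctionField V a = X.germToFunctionField V d * t}
  add_mem' := by
    intro a b ha hb hV
    obtain ⟨d, hd, h1⟩ := ha hV
    obtain ⟨e, he, h2⟩ := hb hV
    exact ⟨d + e, add_mem hd he, by rw [map_add, map_add, h1, h2, add_mul]⟩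
  zero_mem' := fun hV => ⟨0, zero_mem _, by rw [map_zero, zero_mul]⟩
  smul_mem' := by
    intro c a ha hV
    obtain ⟨d, hd, h1⟩ := ha hV
    exact ⟨c * d, Ideal.mul_mem_left _ _ hd, by rw [smul_eq_mul, map_mul, map_mul, h1, mul_assoc]⟩

theorem mem_scaleIdeal {V : X.Opens} (𝔡 : Ideal Γ(X, V)) (t : X.functionField) (a : Γ(X, V)) :
    a ∈ scaleIdeal 𝔡 t ↔
      ∀ _ : Nonempty V, ∃ d ∈ 𝔡, X.germToFunctionField V a = X.germToFunctionField V d * t :=
  Iff.rfl

theorem mem_scaleIdeal' {V : X.Opens} [hV : Nonempty V] (𝔡 : Ideal Γ(X, V)) (t : X.functionField) (a : Γ(X, V)) :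
    a ∈ scaleIdeal 𝔡 t ↔
      ∃ d ∈ 𝔡, X.germToFunctionField V a = X.germToFunctionField V d * t :=
  ⟨fun h => h hV, fun h _ => h⟩

theorem map_scaleIdeal {V : X.Opens} (hV : IsAffineOpen V) (g : Γ(X, V)) (t : X.functionField)
    (𝔡 : Ideal Γ(X, V)) (𝔡' : Ideal Γ(X, X.basicOpen g))
    (h𝔡 : 𝔡.map (X.presheaf.map (homOfLE (X.basicOpen_le g)).op).hom = 𝔡') :
    (scaleIdeal 𝔡 t).map (X.presheaf.map (homOfLE (X.basicOpen_le g)).op).hom = scaleIdeal 𝔡' t := by
  subst h𝔡
  have hloc : IsLocalization.Away g Γ(X, X.basicOpen g) := hV.isLocalization_basicOpen g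
  rcases isEmpty_or_nonempty (X.basicOpen g) with he | hne
  · have h0 : (X.basicOpen g) = ⊥ := by
      ext x; exact ⟨fun hx => (he.false ⟨x, hx⟩).elim, fun hx => hx.elim⟩
    have : Subsingleton Γ(X, X.basicOpen g) := by
      rw [h0]; infer_instance
    exact Subsingleton.elim _ _
  have hneV : Nonempty V := ⟨⟨_, X.basicOpen_le g hne.some.2⟩⟩
  apply le_antisymm
  · rw [Ideal.map_le_iff_le_comap]
    intro a ha
    rw [mem_scaleIdeal'] at ha
    obtain ⟨d, hd, h1⟩ := ha
    rw [Ideal.mem_comap, mem_scaleIdeal']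
    refine ⟨X.presheaf.map (homOfLE (X.basicOpen_le g)).op d, Ideal.mem_map_of_mem _ hd, ?_⟩
    refine (germ_res (X.basicOpen_le g) a).trans ?_
    rw [h1]
    exact congrArg (· * t) (germ_res (X.basicOpen_le g) d).symm
  · intro a ha
    rw [mem_scaleIdeal'] at ha
    obtain ⟨d, hd, h1⟩ := ha
    change d ∈ 𝔡.map (algebraMap Γ(X, V) Γ(X, X.basicOpen g)) at hd
    change a ∈ (scaleIdeal 𝔡 t).map (algebraMap Γ(X, V) Γ(X, X.basicOpen g))
    have hgerm : ∀ c : Γ(X, V), X.germToFunctionField (X.basicOpen g) (algebraMap _ _ c) =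
        X.germToFunctionField V c := fun c => germ_res (X.basicOpen_le g) c
    obtain ⟨⟨⟨d', hd'⟩, ⟨_, n, rfl⟩⟩, h2⟩ := (IsLocalization.mem_map_algebraMap_iff (Submonoid.powers g) _).1 hd
    obtain ⟨⟨a', ⟨_, m, rfl⟩⟩, h3⟩ := IsLocalization.surj (Submonoid.powers g) a
    dsimp only at h2 h3
    have h2' := congrArg (X.germToFunctionField (X.basicOpen g)) h2
    have h3' := congrArg (X.germToFunctionField (X.basicOpen g)) h3
    rw [map_mul, hgerm, hgerm] at h2' h3'
    have h4 : a' * g ^ n ∈ scaleIdeal 𝔡 t := by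
      rw [mem_scaleIdeal']
      refine ⟨d' * g ^ m, Ideal.mul_mem_right _ _ hd', ?_⟩
      rw [map_mul, map_mul, ← h2', ← h3', h1]
      ring
    have h5 := Ideal.mem_map_of_mem (algebraMap Γ(X, V) Γ(X, X.basicOpen g)) h4
    rw [map_mul, ← h3, mul_assoc, ← map_mul, ← pow_add, map_pow] at h5
    have h6 : IsUnit (algebraMap Γ(X, V) Γ(X, X.basicOpen g) g) :=
      IsLocalization.Away.algebraMap_isUnit g
    exact (Ideal.mul_unit_mem_iff_mem _ (h6.pow _)).1 h5

/-- The ideal sheaf `𝒟 · t ∩ O_X`. -/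
noncomputable def scale (𝒟 : X.IdealSheafData) (t : X.functionField) : X.IdealSheafData where
  ideal V := scaleIdeal (𝒟.ideal V) t
  map_ideal_basicOpen V g := map_scaleIdeal V.2 g t _ _ (𝒟.map_ideal_basicOpen V g)

theorem scale_ideal (𝒟 : X.IdealSheafData) (t : X.functionField) (V : X.affineOpens) :
    (scale 𝒟 t).ideal V = scaleIdeal (𝒟.ideal V) t := rfl

/-- If `𝒟` is generated by `d` over `V` and `d * t = a` then `scale 𝒟 t` is generated by `a` over `V`. -/
theorem scale_ideal_eq_span (𝒟 : X.IdealSheafData) (t : X.functionField) (V : X.affineOpens) [Nonempty V.1]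
    {d a : Γ(X, V.1)} (hd : 𝒟.ideal V = Ideal.span {d})
    (ha : X.germToFunctionField V.1 a = X.germToFunctionField V.1 d * t) :
    (scale 𝒟 t).ideal V = Ideal.span {a} := by
  rw [scale_ideal]
  ext c
  rw [mem_scaleIdeal', hd, Ideal.mem_span_singleton]
  constructor
  · rintro ⟨e, he, h⟩
    obtain ⟨r, rfl⟩ := Ideal.mem_span_singleton.1 he
    refine ⟨r, ?_⟩
    apply X.germToFunctionField_injective V.1
    rw [h, map_mul, map_mul, ha]
    ring
  · rintro ⟨r, rfl⟩
    refine ⟨d * r, Ideal.mul_mem_right _ _ (Ideal.mem_span_singleton_self d), ?_⟩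
    rw [map_mul, map_mul, ha]
    ring

/-- Elements of the ideal of denominators. -/
theorem mem_scale_top_inv {t : X.functionField} (ht : t ≠ 0) (V : X.affineOpens) [Nonempty V.1] (d : Γ(X, V.1)) :
    d ∈ (scale ⊤ t⁻¹).ideal V ↔ ∃ a : Γ(X, V.1), X.germToFunctionField V.1 a = X.germToFunctionField V.1 d * t := by
  rw [scale_ideal, mem_scaleIdeal']
  constructor
  · rintro ⟨a, -, h⟩
    exact ⟨a, by rw [h, mul_assoc, inv_mul_cancel₀ ht, mul_one]⟩
  · rintro ⟨a, h⟩
    exact ⟨a, trivial, by rw [h, mul_assoc, mul_inv_cancel₀ ht, mul_one]⟩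

/-- The ideal of denominators has its support in the complement of the locus of regularity. -/
theorem support_scale_top_inv {t : X.functionField} (ht : t ≠ 0) :
    Disjoint ((scale (⊤ : X.IdealSheafData) t⁻¹).support : Set X) (reg t : Set X) := by
  rw [Set.disjoint_left]
  intro x hx hxr
  obtain ⟨V, hV, hxV, hVr⟩ := exists_isAffineOpen_mem_and_subset (U := reg t) hxr
  have hne : Nonempty V := ⟨⟨x, hxV⟩⟩
  have h1 := (Scheme.IdealSheafData.mem_support_iff_of_mem (I := scale (⊤ : X.IdealSheafData) t⁻¹)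
    (U := ⟨V, hV⟩) hxV).1 hx
  have h2 : (1 : Γ(X, V)) ∈ (scale ⊤ t⁻¹).ideal ⟨V, hV⟩ := by
    refine (mem_scale_top_inv (V := ⟨V, hV⟩) ht 1).2 ⟨X.presheaf.map (homOfLE hVr).op (sec t), ?_⟩
    rw [map_one, one_mul]
    refine (germ_res (show V ≤ reg t from hVr) (sec t)).trans ?_
    exact germToFunctionField_sec t
  have h3 := (Scheme.mem_zeroLocus_iff X _ x).1 h1 1 h2
  rw [Scheme.basicOpen_one] at h3
  exact h3 hxV

/-- If the complement of the support of `D` lies in the locus of regularity of `t`, then some power of `D` is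
contained in the ideal of denominators of `t`. -/
theorem exists_pow_le [IsNoetherian X] (D : X.IdealSheafData) {t : X.functionField} (ht : t ≠ 0)
    (h : ∀ x, x ∉ D.support → x ∈ reg t) : ∃ n : ℕ, D ^ n ≤ scale ⊤ t⁻¹ := by
  apply Groth.Agent.Ega1.AnnIdealNoeth.exists_pow_le
  intro x hx
  by_contra hxD
  exact Set.disjoint_left.1 (support_scale_top_inv ht) hx (h x hxD)

end K483.Scale
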