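import Groth.Agent.BlowUp.K483.ProjBir
import Groth.Agent.BlowUp.K483.Scale
import Groth.Agent.BlowUp.K483.Local
import Groth.Agent.Divis.BlowChart2
import Groth.Agent.Models.H38.SecDiv
import Groth.Agent.Fdesc.LocGenAmple

/-!
# Projective birational morphisms are blow-ups
-/

set_option autoImplicit false
universe u
open CategoryTheory CategoryTheory.Limits AlgebraicGeometry TopologicalSpace Opposite
open Groth.Agent.CohqA.ChevGen (germ_res)
open Groth.Agent.CurvesC.BlowUpCharts Groth.Agent.CurvesC.BlowUpInter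
open Groth.Agent.VarietyB Groth.Agent.VarietyB.ProjGlue
open Groth.Agent.Divis
open K483.ProjBir K483.Scale

namespace K483.ProjBirGlobal

section ff

variable {Y Z : Scheme.{u}} [IsIntegral Y] [IsIntegral Z] (g : Y ⟶ Z) [IsDominant g]

/-- The map on function fields of a dominant morphism. -/
noncomputable def ffm : Z.functionField ⟶ Y.functionField :=
  Z.presheaf.stalkSpecializes (specializes_of_eq (map_genericPoint g)) ≫
    g.stalkMap (genericPoint Y)

theorem ffm_germ {V : Z.Opens} {W : Y.Opens} [Nonempty V] [Nonempty W] (e : W ≤ g ⁻¹ᵁ V) (x : Γ(Z, V)) :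
    ffm g (Z.germToFunctionField V x) = Y.germToFunctionField W (g.appLE V W e x) := by
  have hne : Nonempty (g ⁻¹ᵁ V) := ⟨⟨_, e (Classical.arbitrary W).2⟩⟩
  have h1 : Z.germToFunctionField V ≫ ffm g = g.app V ≫ Y.germToFunctionField (g ⁻¹ᵁ V) := by
    rw [ffm, Scheme.germToFunctionField, TopCat.Presheaf.germ_stalkSpecializes_assoc,
      Scheme.Hom.germ_stalkMap]
  have h2 : ffm g (Z.germToFunctionField V x) = Y.germToFunctionField (g ⁻¹ᵁ V) (g.app V x) := congr($(h1) x)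
  rw [h2]
  exact (germ_res e _).symm

end ff

section affine

variable {X : Scheme.{u}} {V : X.Opens} (hV : IsAffineOpen V)

theorem fromSpec_appLE (x : Γ(X, V)) (e : (⊤ : (Spec Γ(X, V)).Opens) ≤ hV.fromSpec ⁻¹ᵁ V) :
    hV.fromSpec.appLE V ⊤ e x = (Scheme.ΓSpecIso Γ(X, V)).inv x := by
  have h1 : hV.fromSpec.appLE V ⊤ e = (Scheme.ΓSpecIso Γ(X, V)).inv := by
    rw [Scheme.Hom.appLE, IsAffineOpen.fromSpec_app_self, Category.assoc, ← Functor.map_comp]
    exact Category.comp_id _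
  exact congr($(h1) x)

theorem psi_eq {T : Scheme.{u}} (f' : T ⟶ Spec Γ(X, V)) {g : T ⟶ X} (hg : f' ≫ hV.fromSpec = g) (x : Γ(X, V))
    (e : (⊤ : T.Opens) ≤ g ⁻¹ᵁ V) : psi (A := Γ(X, V)) f' x = g.appLE V ⊤ e x := by
  subst hg
  have e1 : (⊤ : (Spec Γ(X, V)).Opens) ≤ hV.fromSpec ⁻¹ᵁ V := by rw [hV.fromSpec_preimage_self]
  have h1 := Scheme.Hom.appLE_comp_appLE f' hV.fromSpec V ⊤ ⊤ e1 le_top
  have h2 : (f' ≫ hV.fromSpec).appLE V ⊤ e x = f'.appLE ⊤ ⊤ le_top (hV.fromSpec.appLE V ⊤ e1 x) :=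
    (congr($(h1) x)).symm
  rw [h2, fromSpec_appLE]
  change f'.appTop.hom _ = (f'.appLE ⊤ ⊤ le_top).hom _
  rw [Scheme.Hom.appTop, Scheme.Hom.app_eq_appLE]
  rfl

end affine

section data

theorem appLE_pullbackData {Y Z P : Scheme.{u}} {J : Type} (j : Y ⟶ Z) (r : Z ⟶ P) (r' : Y ⟶ P) (h : r' = j ≫ r)
    (D : CoordData P J) (a b : J)
    (e : (ProjStd.pullbackData r' D).U a ≤ j ⁻¹ᵁ (ProjStd.pullbackData r D).U a) :
    j.appLE _ _ e ((ProjStd.pullbackData r D).f a b) = (ProjStd.pullbackData r' D).f a b := by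
  subst h
  change j.appLE (r ⁻¹ᵁ D.U a) (j ⁻¹ᵁ r ⁻¹ᵁ D.U a) e (r.app _ (D.f a b)) = (j ≫ r).app _ (D.f a b)
  rw [← Scheme.Hom.app_eq_appLE]
  exact (congr($(Scheme.Hom.comp_app j r (D.U a)) (D.f a b))).symm

theorem gphi_eq_ffm {X Z T : Scheme.{u}} [IsIntegral X] [IsIntegral Z] [IsIntegral T] {V : X.Opens}
    (hV : IsAffineOpen V) [Nonempty V] (f : Z ⟶ X) [IsDominant f] (j : T ⟶ Z) [IsDominant j] (f' : T ⟶ Spec Γ(X, V))
    (h : f' ≫ hV.fromSpec = j ≫ f) (x : Γ(X, V)) :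
    gphi (A := Γ(X, V)) f' x = ffm j (ffm f (X.germToFunctionField V x)) := by
  have hneT : Nonempty (⊤ : T.Opens) := ⟨⟨genericPoint T, trivial⟩⟩
  have e0 : (⊤ : T.Opens) ≤ (j ≫ f) ⁻¹ᵁ V := by
    rw [← h, Scheme.Hom.comp_preimage, hV.fromSpec_preimage_self]
    exact le_top
  have hne : Nonempty (f ⁻¹ᵁ V) := ⟨⟨j (genericPoint T), e0 trivial⟩⟩
  rw [← germ_phi (f := f') ⊤ x, phi_top, psi_eq hV f' h x e0, ffm_germ f (le_refl (f ⁻¹ᵁ V)),
    ffm_germ j (show ⊤ ≤ j ⁻¹ᵁ f ⁻¹ᵁ V from e0)]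
  have h1 := Scheme.Hom.appLE_comp_appLE j f V (f ⁻¹ᵁ V) ⊤ le_rfl e0
  exact congrArg _ (congr($(h1) x)).symm

end data

section restrict

open CohB1 Groth.Agent.Dix.ProjProper

variable {X Z : Scheme.{u}} [IsIntegral X] [IsIntegral Z] (f : Z ⟶ X) [Surjective f] {N : ℕ}
  (i : Z ⟶ ProjSpaceOver N X) [IsClosedImmersion i] (hi : i ≫ ProjSpaceOver.toBase N X = f)
  (E : CoordData Z (Fin (N + 1)))
  (hE : E = ProjStd.pullbackData (i ≫ toZ N X) (ProjStd.stdData (Fin (N + 1)) (ULift.{u} ℤ)))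
  (j₀ : Fin (N + 1)) [hne : Nonempty (E.U j₀)] (t : Fin (N + 1) → X.functionField)
  (ht : ∀ k, ffm f (t k) = Z.germToFunctionField (E.U j₀) (E.f j₀ k))

include hi hE ht in
theorem isBlowUp_restrict {V : X.Opens} (hV : IsAffineOpen V) [hneV : Nonempty V] (a : Fin (N + 1) → Γ(X, V))
    (ha0 : a j₀ ≠ 0) (ha : ∀ k, X.germToFunctionField V (a k) = X.germToFunctionField V (a j₀) * t k)
    (𝓘 : X.IdealSheafData) (h𝓘 : 𝓘.ideal ⟨V, hV⟩ = sp a) : BlowUp.IsBlowUp (f ∣_ V) (𝓘.comap V.ι) := by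
  let A : Type u := Γ(X, V)
  let f' : (f ⁻¹ᵁ V : Scheme.{u}) ⟶ Spec (CommRingCat.of A) := (f ∣_ V) ≫ hV.isoSpec.hom
  let fs : Spec (CommRingCat.of A) ⟶ X := hV.fromSpec
  let j : (f ⁻¹ᵁ V : Scheme.{u}) ⟶ Z := (f ⁻¹ᵁ V).ι
  have hnp : Nonempty (f ⁻¹ᵁ V) := Groth.Agent.CohqA.ChevGen.nonempty_preimage f V
  have hnp' : Nonempty (f ⁻¹ᵁ V : Scheme.{u}) := hnp
  have hint : IsIntegral (f ⁻¹ᵁ V : Scheme.{u}) := inferInstance
  have hjf : f' ≫ fs = j ≫ f := by
    change ((f ∣_ V) ≫ hV.isoSpec.hom) ≫ hV.fromSpec = _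
    rw [Category.assoc, IsAffineOpen.isoSpec_hom_fromSpec, morphismRestrict_ι]
  have hpb : IsPullback j f' f fs := by
    refine (isPullback_morphismRestrict f V).flip.of_iso (Iso.refl _) (Iso.refl _) hV.isoSpec (Iso.refl _) ?_ ?_ ?_ ?_
    · simp [j]
    · simp [f']
    · simp
    · change V.ι ≫ 𝟙 X = hV.isoSpec.hom ≫ hV.fromSpec
      rw [IsAffineOpen.isoSpec_hom_fromSpec, Category.comp_id]
  have hcomm : (j ≫ i) ≫ ProjSpaceOver.toBase N X = f' ≫ fs := by
    rw [Category.assoc, hi, hjf]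
  let i' : (f ⁻¹ᵁ V : Scheme.{u}) ⟶ ProjSpaceOver N (Spec (CommRingCat.of A)) :=
    (isPullback_mapBase N fs).lift (j ≫ i) f' hcomm
  have hi'₁ : i' ≫ mapBase N fs = j ≫ i := (isPullback_mapBase N fs).lift_fst _ _ _
  have hi'₂ : i' ≫ ProjSpaceOver.toBase N _ = f' := (isPullback_mapBase N fs).lift_snd _ _ _
  have hpb' : IsPullback j i' i (mapBase N fs) := by
    refine IsPullback.of_bot ?_ hi'₁.symm (isPullback_mapBase N fs)
    rw [hi'₂, hi]
    exact hpb
  have hcl : IsClosedImmersion i' := MorphismProperty.of_isPullback (P := @IsClosedImmersion) hpb' inferInstance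
  have hsurj : Surjective f' := MorphismProperty.of_isPullback (P := @Surjective) hpb inferInstance
  have hdomA : IsDomain A := inferInstanceAs (IsDomain Γ(X, V))
  have hZ : i' ≫ toZ N _ = j ≫ i ≫ toZ N X := by
    rw [← mapBase_toZ N fs, ← Category.assoc, hi'₁, Category.assoc]
  have hjd : IsDominant j := AlgebraicGeometry.Opens.isDominant_ι ((f ⁻¹ᵁ V).isOpen.dense ⟨_, hnp.some.2⟩)
  subst hE
  have hU : (ProjStd.pullbackData (i' ≫ toZ N _) (ProjStd.stdData (Fin (N + 1)) (ULift.{u} ℤ))).U j₀ =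
      j ⁻¹ᵁ (ProjStd.pullbackData (i ≫ toZ N X) (ProjStd.stdData (Fin (N + 1)) (ULift.{u} ℤ))).U j₀ := by
    rw [hZ]
    rfl
  have hneE : Nonempty ((ProjStd.pullbackData (i' ≫ toZ N _)
      (ProjStd.stdData (Fin (N + 1)) (ULift.{u} ℤ))).U j₀) := by
    rw [hU]
    refine ⟨⟨genericPoint _, ?_⟩⟩
    rw [Scheme.Hom.mem_preimage, map_genericPoint j]
    exact Groth.Agent.Picfga.RegLocus.genericPoint_mem _
  have main : BlowUp.IsBlowUp f' (Curv2.idealSheaf A (sp a)) := by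
    refine isBlowUp_of_coord f' N i' hi'₂ a j₀ ha0 _ rfl ?_
    intro k
    rw [gphi_eq_ffm hV f j f' hjf (a k), gphi_eq_ffm hV f j f' hjf (a j₀), ha k, map_mul, map_mul, ht k]
    congr 1
    rw [ffm_germ j hU.le]
    exact congrArg _ (appLE_pullbackData j _ _ hZ _ j₀ k _)
  have hsq : IsPullback (𝟙 _) (f ∣_ V) f' hV.isoSpec.hom := IsPullback.of_horiz_isIso ⟨by simp [f']⟩
  have h1 := BlowUpFormal.isBlowUp_of_isPullback main hsq
  have h2 : 𝓘.comap hV.fromSpec = Curv2.idealSheaf A (sp a) := by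
    rw [← h𝓘]
    exact BlowChart2.comap_fromSpec 𝓘 ⟨V, hV⟩
  rw [← h2, ← Scheme.IdealSheafData.comap_comp, IsAffineOpen.isoSpec_hom_fromSpec] at h1
  exact h1

end restrict

section divisor

open Groth.Agent.Fdesc.LocGen

/-- On an integral scheme with an ample module there are effective Cartier divisors containing any given proper
closed subset. -/
theorem exists_divisor_le {X : Scheme.{u}} [IsIntegral X] {M : X.Modules} (hM : CohB1.IsAmple M) {W : X.Opens}
    (hW : genericPoint X ∈ W) :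
    ∃ D : X.IdealSheafData, BlowUp.IsEffCartierIdeal D ∧ ∀ x, x ∉ D.support → x ∈ W := by
  obtain ⟨m, t, hx, ht, -⟩ := IsAmple.exists_genLocus_le hM hW
  have hinv : PicF.IsInvertible (CohB1.tensorPow M (m + 1)) := isInvertible_tensorPow hM.1 (m + 1)
  have hloc : ∀ (U : X.affineOpens) (e : Γ(CohB1.tensorPow M (m + 1), U.1)) (a : Γ(X, U.1)), IsGen e →
      res _ le_top (sec t ⊤) = a • e → CohB1.genLocus _ t ⊓ U.1 = X.basicOpen a := by
    intro U e a he ha
    rw [res_sec] at ha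
    exact genLocus_inf_eq t he ha
  obtain ⟨D, hD, -, hDU⟩ := Groth.Agent.Models.H38.SecDiv.exists_divisor hinv (sec t ⊤) (by
    intro U e a he ha
    rcases isEmpty_or_nonempty U.1 with h0 | h0
    · have h1 : U.1 = ⊥ := by
        ext x; exact ⟨fun hx => (h0.false ⟨x, hx⟩).elim, fun hx => hx.elim⟩
      have h2 : Subsingleton Γ(X, U.1) := by rw [h1]; infer_instance
      rw [mem_nonZeroDivisors_iff_right]
      intro z _
      exact Subsingleton.elim _ _
    · apply mem_nonZeroDivisors_of_ne_zero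
      rintro rfl
      have h1 := hloc U e 0 he ha
      rw [Scheme.basicOpen_zero] at h1
      have h2 : genericPoint X ∈ CohB1.genLocus _ t ⊓ U.1 :=
        ⟨hx, Groth.Agent.Picfga.RegLocus.genericPoint_mem _⟩
      rw [h1] at h2
      exact h2.elim)
  refine ⟨D, hD, ?_⟩
  intro x hxD
  obtain ⟨V, e, hxV, he⟩ := (isInvertible_iff _).1 hinv x
  obtain ⟨U, hU, hxU, hUV⟩ := exists_isAffineOpen_mem_and_subset (U := V) hxV
  obtain ⟨a, ha⟩ := (he.res hUV).exists_eq (res _ le_top (sec t ⊤))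
  have h1 := hDU ⟨U, hU⟩ _ a (he.res hUV) ha
  have h2 := hloc ⟨U, hU⟩ _ a (he.res hUV) ha
  have h3 : x ∈ X.basicOpen a := by
    by_contra h4
    apply hxD
    rw [Scheme.IdealSheafData.mem_support_iff_of_mem (U := ⟨U, hU⟩) hxU, h1, Scheme.zeroLocus_span,
      Scheme.zeroLocus_singleton]
    exact h4
  rw [← h2] at h3
  exact ht h3.1

end divisor

section main

open CohB1 Groth.Agent.Dix.ProjProper

variable {X Z : Scheme.{u}} [IsIntegral X] [IsIntegral Z]

theorem isIso_stalkMap_of_isIso {T S : Scheme.{u}} (g : T ⟶ S) [IsIso g] (z : T) : IsIso (g.stalkMap z) :=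
  inferInstance

theorem ffm_surjective (f : Z ⟶ X) [IsDominant f] (hbir : ∃ U : X.Opens, (U : Set X).Nonempty ∧ IsIso (f ∣_ U)) :
    Function.Surjective (ffm f) := by
  obtain ⟨U, ⟨x, hx⟩, hU⟩ := hbir
  have hne : Nonempty U := ⟨⟨x, hx⟩⟩
  have h1 : genericPoint Z ∈ f ⁻¹ᵁ U := by
    rw [Scheme.Hom.mem_preimage, map_genericPoint f]
    exact Groth.Agent.Picfga.RegLocus.genericPoint_mem U
  have h2 : IsIso (f.stalkMap (genericPoint Z)) := by
    let z : (f ⁻¹ᵁ U : Scheme.{u}) := ⟨genericPoint Z, h1⟩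
    have e := morphismRestrictStalkMap f U z
    have h3 : IsIso ((f ∣_ U).stalkMap z) := isIso_stalkMap_of_isIso _ z
    exact (MorphismProperty.arrow_mk_iso_iff (MorphismProperty.isomorphisms _) e).1 h3
  have h3 : IsIso (ffm f) := by
    have h4 : IsIso (X.presheaf.stalkSpecializes (specializes_of_eq (map_genericPoint f))) :=
      (X.presheaf.stalkCongr (Inseparable.of_eq (map_genericPoint f).symm)).isIso_hom
    exact IsIso.comp_isIso' h4 h2
  exact (ConcreteCategory.bijective_of_isIso (ffm f)).2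

/-- A projective birational morphism to an integral Noetherian scheme with an ample module is a blow-up. -/
theorem exists_isBlowUp [IsNoetherian X] (M : X.Modules) (hM : CohB1.IsAmple M) (f : Z ⟶ X) (N : ℕ)
    (i : Z ⟶ ProjSpaceOver N X) [IsClosedImmersion i] (hi : i ≫ ProjSpaceOver.toBase N X = f)
    (hbir : ∃ U : X.Opens, (U : Set X).Nonempty ∧ IsIso (f ∣_ U)) :
    ∃ I : X.IdealSheafData, BlowUp.IsBlowUp f I := by
  have hproper : IsProper f := by rw [← hi]; infer_instance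
  have hdom : IsDominant f := by
    obtain ⟨U, hne, hU⟩ := hbir
    refine ⟨?_⟩
    have h1 : (U : Set X) ⊆ Set.range f := by
      intro x hx
      have hs : Surjective (f ∣_ U) := inferInstance
      obtain ⟨z, hz⟩ := hs.surj ⟨x, hx⟩
      refine ⟨(f ⁻¹ᵁ U).ι z, ?_⟩
      rw [← Scheme.Hom.comp_apply, ← morphismRestrict_ι, Scheme.Hom.comp_apply, hz]
      rfl
    exact (U.isOpen.dense hne).mono h1
  have hsurj : Surjective f := surjective_of_isDominant_of_isClosed_range f f.isClosedMap.isClosed_range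
  let E : CoordData Z (Fin (N + 1)) :=
    ProjStd.pullbackData (i ≫ toZ N X) (ProjStd.stdData (Fin (N + 1)) (ULift.{u} ℤ))
  obtain ⟨j₀, hj₀⟩ : ∃ j₀, genericPoint Z ∈ E.U j₀ := by
    have h1 : genericPoint Z ∈ ⨆ j, E.U j := by rw [E.iSup_U]; trivial
    exact Opens.mem_iSup.1 h1
  have hne : Nonempty (E.U j₀) := ⟨⟨_, hj₀⟩⟩
  choose t ht using fun k => ffm_surjective f hbir (Z.germToFunctionField (E.U j₀) (E.f j₀ k))
  have hinj : Function.Injective (ffm f) := (ffm f).hom.injective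
  have ht0 : t j₀ = 1 := by
    apply hinj
    rw [ht, E.f_self, map_one, map_one]
  let W : X.Opens := ⟨⋂ k, (Groth.Agent.Picfga.RegLocus.reg (t k) : Set X),
    isOpen_iInter_of_finite fun k => (Groth.Agent.Picfga.RegLocus.reg (t k)).isOpen⟩
  obtain ⟨D, hD, hDW⟩ := exists_divisor_le hM (W := W)
    (Set.mem_iInter.2 fun k => Groth.Agent.Picfga.RegLocus.genericPoint_mem_reg (t k))
  have hn : ∀ k, ∃ n : ℕ, t k ≠ 0 → D ^ n ≤ scale ⊤ (t k)⁻¹ := by
    intro k
    by_cases h0 : t k = 0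
    · exact ⟨0, fun h => (h h0).elim⟩
    · obtain ⟨n, hn⟩ := exists_pow_le D h0 (fun x hx => Set.mem_iInter.1 (hDW x hx) k)
      exact ⟨n, fun _ => hn⟩
  choose n hn using hn
  have hpow : ∀ k, t k ≠ 0 → D ^ (Finset.univ.sup n) ≤ scale ⊤ (t k)⁻¹ := by
    intro k hk
    refine le_trans ?_ (hn k hk)
    intro U
    rw [Scheme.IdealSheafData.ideal_pow, Scheme.IdealSheafData.ideal_pow, Pi.pow_apply, Pi.pow_apply]
    exact Ideal.pow_le_pow_right (Finset.le_sup (Finset.mem_univ k))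
  refine ⟨⨆ k, scale (D ^ (Finset.univ.sup n)) (t k), Local.isBlowUp_of_local fun x => ?_⟩
  obtain ⟨⟨V, hV⟩, hxV, d, hd, hdV⟩ := EffCartier.isEff_pow hD (Finset.univ.sup n) x
  have hneV : Nonempty V := ⟨⟨x, hxV⟩⟩
  have hd0 : d ≠ 0 := nonZeroDivisors.ne_zero hd
  have hex : ∀ k, ∃ a : Γ(X, V), X.germToFunctionField V a = X.germToFunctionField V d * t k := by
    intro k
    by_cases htk : t k = 0
    · exact ⟨0, by rw [htk, mul_zero, map_zero]⟩
    · refine (mem_scale_top_inv htk ⟨V, hV⟩ d).1 (hpow k htk ⟨V, hV⟩ ?_)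
      rw [hdV]
      exact Ideal.mem_span_singleton_self d
  choose a ha using hex
  have haj : a j₀ = d := by
    apply X.germToFunctionField_injective V
    rw [ha, ht0, mul_one]
  refine ⟨V, hxV, isBlowUp_restrict f i hi E rfl j₀ t ht hV a (by rw [haj]; exact hd0)
    (fun k => by rw [ha k, haj]) _ ?_⟩
  rw [Scheme.IdealSheafData.ideal_iSup, iSup_apply, sp, Ideal.span, Submodule.span_range_eq_iSup]
  exact iSup_congr fun k => scale_ideal_eq_span _ _ ⟨V, hV⟩ hdV (ha k)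

end main

end K483.ProjBirGlobal
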